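import Cfsg.Agent.Lib.InvChar.SuzCo.Quot
import Cfsg.Agent.Lib.ClassK.ConwayMain

/-!
# In a group of Conway type some element of order three has a centraliser of Suzuki type
-/

set_option autoImplicit false

namespace CfsgLib.InvChar.SuzCo

open Subgroup CfsgLib.Trans3.ExtraTwo CfsgLib.ClassK.Conway

theorem exists_suz_element {G : Type*} [Group G] [Finite G] (z : G) (hz : orderOf z = 2)
    (Q : Subgroup (centralizer ({z} : Set G))) [Q.Normal]
    (hF : Cfsg.generalizedFittingSubgroup (centralizer ({z} : Set G)) = Q)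
    (hQ : Cfsg.IsExtraspecial 2 Q) (hcard : Nat.card Q = 2 ^ 9)
    (e : (centralizer ({z} : Set G)) ⧸ Q ≃* Cfsg.Omega (ZMod 2) (Cfsg.quadFormPlus 4 (ZMod 2)))
    (hnwc : ∃ g : G, (∃ hq : g * z * g⁻¹ ∈ centralizer ({z} : Set G),
      (⟨g * z * g⁻¹, hq⟩ : centralizer ({z} : Set G)) ∈ Q) ∧ g * z * g⁻¹ ≠ z) :
    ∃ x : G, orderOf x = 3 ∧ ∀ [((zpowers x).subgroupOf (centralizer ({x} : Set G))).Normal],
      SuzHyp (↥(centralizer ({x} : Set G)) ⧸ (zpowers x).subgroupOf (centralizer ({x} : Set G))) := by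
  let C := centralizer ({z} : Set G)
  let QG : Subgroup G := Q.map C.subtype
  have hQC : QG ≤ C := map_subtype_le _
  have hsub : QG.subgroupOf C = Q := comap_map_eq_self_of_injective C.subtype_injective _
  let eq : ↥Q ≃* ↥QG := Q.equivMapOfInjective _ C.subtype_injective
  have hpack := PLocal.LargeExtra.pack_of_fstar hz hQC (by rw [hF])
    (Trans3.LargeLinear.isExtraspecial_of_equiv eq hQ)
  haveI : (QG.subgroupOf C).Normal := by rw [hsub]; infer_instance
  obtain ⟨g, ⟨hq, hmem⟩, hne⟩ := hnwc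
  obtain ⟨ε, S⟩ := exists_setup hpack hQC (by rw [← hcard]; exact (Nat.card_congr eq.toEquiv).symm)
    (by rw [hsub, Subgroup.index_eq_card, Nat.card_congr e.toEquiv, card_omega8plus])
    ⟨g, ⟨_, hmem, rfl⟩, hne⟩
  obtain ⟨ρ, T⟩ := S.exists_tri
  obtain ⟨x, X⟩ := exists_rot T
  exact ⟨x, order_x T X, fun {_} => suz_hyp T X⟩

end CfsgLib.InvChar.SuzCo
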