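import Cfsg.Agent.Lib.InvChar.SuzCo.Fixed
import Cfsg.Agent.Lib.InvChar.SuzY.Basic

/-!
# An element of order three with quaternion commutator group is conjugate to the rotation or its inverse
-/

set_option autoImplicit false
set_option linter.unusedSectionVars false
set_option maxRecDepth 10000

namespace CfsgLib.InvChar.SuzCo

open Subgroup CfsgLib.Trans3.ExtraTwo CfsgLib.ClassK.Conway
open scoped commutatorElement

theorem to_eb : ∀ x : Sp 4, qd x = 1 → alt (up ea) x = 1 → x = up eb ∨ alt x (up eb) = 1 ∨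
    ∃ r, qd r = 1 ∧ alt (up ea) r = 1 ∧ alt x r = 1 ∧ alt (up eb) r = 1 := by
  decide +kernel

theorem to_ea : ∀ x : Sp 4, qd x = 1 → x = up ea ∨ alt x (up ea) = 1 ∨
    ∃ r, qd r = 1 ∧ alt x r = 1 ∧ alt (up ea) r = 1 := by
  decide +kernel

theorem proj_ell : ∀ v : Sp 4, ∃ s t : ZMod 2, alt (v + (s • up ea + t • up eb)) (up ea) = 0 ∧
    alt (v + (s • up ea + t • up eb)) (up eb) = 0 := by
  decide +kernel

theorem R_perp : ∀ v : Sp 4, alt v (up ea) = 0 → alt v (up eb) = 0 → R v = v := by decide +kernel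

/-- An elliptic pair is carried to the standard one by a product of an even number of reflections. -/
theorem exists_to_std {P : (Sp 4 → Sp 4) → Prop} (hP : Even P) {a b : Sp 4} (ha : qd a = 1)
    (hb : qd b = 1) (hab : alt a b = 1) :
    ∃ g, P g ∧ Isom g ∧ g a = up ea ∧ g b = up eb := by
  obtain ⟨-, -, qa, qb, -, -, -, -⟩ := plane_facts
  obtain ⟨f, k, hf, hfa, -⟩ := move_fix (a := (0 : Sp 4)) (d := 0) ha qa (alt_zero_left _)
    (alt_zero_left _) (by
      rcases to_ea a ha with h | h | ⟨r, h1, h2, h3⟩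
      · exact Or.inl h
      · exact Or.inr (Or.inl h)
      · exact Or.inr (Or.inr ⟨r, h1, alt_zero_left _, h2, h3⟩))
  have hfb : qd (f b) = 1 := by rw [hf.isom.map_qd, hb]
  have hfab : alt (up ea) (f b) = 1 := by rw [← hfa, hf.isom.map_alt, hab]
  obtain ⟨g, l, hg, hgb, hga⟩ := move_fix (a := up ea) (x := f b) (y := up eb) (c := 1) (d := 1) hfb qb
    hfab (by decide +kernel) (to_eb (f b) hfb hfab)
  obtain ⟨m, hm⟩ := hg.comp hf
  have ha' : (g ∘ f) a = up ea := by rw [Function.comp_apply, hfa, hga]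
  have hb' : (g ∘ f) b = up eb := by rw [Function.comp_apply, hgb]
  obtain ⟨n, hn1, hn2, hn3⟩ : ∃ n : Sp 4, qd n = 1 ∧ alt (up ea) n = 0 ∧ alt (up eb) n = 0 := by
    decide +kernel
  obtain ⟨p, hp, hpi, hpv⟩ := hP.exists_of_word hn1 hm
  exact ⟨p, hp, hpi, by rw [hpv a (by rw [ha', hn2]), ha'], by rw [hpv b (by rw [hb', hn3]), hb']⟩

variable {G : Type*} [Group G] [Finite G] {z : G} {Q : Subgroup G} {e : ↥Q ≃* ES 4 (ff 4)}

/-- The two possible actions on the plane. -/
def PlaneVals (t : Sp 4 → Sp 4) (a b : Sp 4) : Prop :=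
  (t a = b ∧ t b = a + b) ∨ (t a = a + b ∧ t b = a)

theorem fix_all {t : Sp 4 → Sp 4} (hti : Isom t) {a b : Sp 4} (hab : alt a b = 1)
    (hperp : ∀ v, alt v a = 0 → alt v b = 0 → t v = v) (ha : t a = a) (hb : t b = b) (u : Sp 4) :
    t u = u := by
  obtain ⟨u', hu'⟩ : ∃ u', u' = u + (alt u b • a + alt u a • b) := ⟨_, rfl⟩
  have hw : t (alt u b • a + alt u a • b) = alt u b • a + alt u a • b := by
    rw [hti.map_add, map_smul' hti, map_smul' hti, ha, hb]
  have hba : alt b a = 1 := by rw [alt_comm, hab]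
  have hu : t u' = u' := by
    refine hperp u' ?_ ?_ <;> rw [hu', alt_add_left, alt_add_left] <;>
      rcases z2_cases (alt u a) with h1 | h1 <;> rcases z2_cases (alt u b) with h2 | h2 <;>
      simp [h1, h2, alt_self, alt_zero_left, hab, hba] <;> decide
  rw [hu', hti.map_add, hw] at hu
  exact add_right_cancel hu

theorem plane_form {t : Sp 4 → Sp 4} (hti : Isom t) (ht3 : ∀ v, t (t (t v)) = v) (hne : ∃ u, t u ≠ u)
    {a b : Sp 4} (hab : alt a b = 1) (hperp : ∀ v, alt v a = 0 → alt v b = 0 → t v = v)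
    (ha : t a = a ∨ t a = b ∨ t a = a + b) (hb : t b = a ∨ t b = b ∨ t b = a + b) :
    (qd a = 1 ∧ qd b = 1) ∧ PlaneVals t a b := by
  obtain ⟨u, hu⟩ := hne
  have n3 : a ≠ b := fun h => by rw [h, alt_self] at hab; exact absurd hab (by decide)
  have n1 : a ≠ 0 := fun h => by rw [h, alt_zero_left] at hab; exact absurd hab (by decide)
  have n2 : b ≠ 0 := fun h => by rw [h, alt_zero_right] at hab; exact absurd hab (by decide)
  have fa : t a ≠ a := by
    intro h
    rcases hb with h' | h' | h'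
    · exact n3 (hti.injective (h.trans h'.symm))
    · exact hu (fix_all hti hab hperp h h' u)
    · have h3' := ht3 b
      rw [h', hti.map_add, h, h', ← add_assoc, sp_add_self, zero_add, h'] at h3'
      exact n1 (add_eq_right.1 h3')
  have fb : t b ≠ b := by
    intro h
    rcases ha with h' | h' | h'
    · exact fa h'
    · exact n3 (hti.injective (h'.trans h.symm))
    · have h3' := ht3 a
      rw [h', hti.map_add, h, h', add_assoc, sp_add_self, add_zero, h'] at h3'
      exact n2 (add_eq_left.1 h3')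
  have hvals : PlaneVals t a b := by
    rcases ha with h | h | h
    · exact absurd h fa
    · rcases hb with h' | h' | h'
      · have h3' := ht3 a
        rw [h, h', h] at h3'
        exact absurd h3'.symm n3
      · exact absurd h' fb
      · exact Or.inl ⟨h, h'⟩
    · rcases hb with h' | h' | h'
      · exact Or.inr ⟨h, h'⟩
      · exact absurd h' fb
      · exact absurd (hti.injective (h.trans h'.symm)) n3
  refine ⟨?_, hvals⟩
  have h := qd_add a b
  rw [hab] at h
  have e1 := hti.map_qd a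
  have e2 := hti.map_qd b
  rcases hvals with ⟨h1, h2⟩ | ⟨h1, h2⟩ <;> rw [h1] at e1 <;> rw [h2] at e2 <;>
    generalize qd a = p at h e1 e2 ⊢ <;> generalize qd b = q at h e1 e2 ⊢ <;>
    generalize qd (a + b) = r at h e1 e2 ⊢ <;> revert p q r <;> decide

theorem R_vals : PlaneVals R (up ea) (up eb) := by
  unfold PlaneVals; decide +kernel

theorem compare {g t t' : Sp 4 → Sp 4} {a b : Sp 4} (hgi : Isom g) (hga : g a = up ea)
    (hgb : g b = up eb) (hi' : Isom t') (hconj : ∀ v, t' (g v) = g (t v))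
    (hperp : ∀ v, alt v a = 0 → alt v b = 0 → t v = v) (hvals : PlaneVals t a b) :
    (∀ v, t' v = R v) ∨ (∀ v, t' v = R (R v)) := by
  have hperp' : ∀ v, alt v (up ea) = 0 → alt v (up eb) = 0 → t' v = v := by
    intro v va vb
    obtain ⟨w, rfl⟩ := hgi.surjective v
    rw [← hga, hgi.map_alt] at va
    rw [← hgb, hgi.map_alt] at vb
    rw [hconj, hperp w va vb]
  have hcases : ∀ {f : Sp 4 → Sp 4}, Isom f →
      (∀ v, alt v (up ea) = 0 → alt v (up eb) = 0 → f v = v) →
      t' (up ea) = f (up ea) → t' (up eb) = f (up eb) → ∀ v, t' v = f v := by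
    intro f hf hf0 h1 h2 v
    obtain ⟨s, r, p1, p2⟩ := proj_ell v
    have hv : v = (v + (s • up ea + r • up eb)) + (s • up ea + r • up eb) := by
      rw [add_assoc, sp_add_self, add_zero]
    rw [hv, hi'.map_add, hf.map_add, hperp' _ p1 p2, hf0 _ p1 p2, hi'.map_add, hf.map_add, map_smul' hi',
      map_smul' hi', map_smul' hf, map_smul' hf, h1, h2]
  have hR2 : Isom (fun v => R (R v)) :=
    ⟨fun a b => by rw [R_isom.map_add, R_isom.map_add], fun v => by rw [R_isom.map_qd, R_isom.map_qd]⟩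
  have hR20 : ∀ v, alt v (up ea) = 0 → alt v (up eb) = 0 → R (R v) = v := fun v p q => by
    rw [R_perp v p q, R_perp v p q]
  have tv : PlaneVals t' (up ea) (up eb) := by
    rw [← hga, ← hgb]
    rcases hvals with ⟨h1, h2⟩ | ⟨h1, h2⟩
    · exact Or.inl ⟨by rw [hconj, h1], by rw [hconj, h2, hgi.map_add]⟩
    · exact Or.inr ⟨by rw [hconj, h1, hgi.map_add], by rw [hconj, h2]⟩
  rcases tv with ⟨p, q⟩ | ⟨p, q⟩ <;> rcases R_vals with ⟨p', q'⟩ | ⟨p', q'⟩
  · exact Or.inl (hcases R_isom R_perp (p.trans p'.symm) (q.trans q'.symm))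
  · refine Or.inr (hcases hR2 hR20 ?_ ?_) <;> simp only [p, q, p', q', R_isom.map_add] <;>
      first
        | rfl
        | rw [add_assoc, sp_add_self, add_zero]
        | rw [add_left_comm, sp_add_self, add_zero]
        | rw [add_comm (up ea + up eb), ← add_assoc, sp_add_self, zero_add]
        | rw [← add_assoc, sp_add_self, zero_add]
        | rw [add_right_comm, sp_add_self, zero_add]
  · refine Or.inr (hcases hR2 hR20 ?_ ?_) <;> simp only [p, q, p', q', R_isom.map_add] <;>
      first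
        | rfl
        | rw [add_assoc, sp_add_self, add_zero]
        | rw [add_left_comm, sp_add_self, add_zero]
        | rw [add_comm (up ea + up eb), ← add_assoc, sp_add_self, zero_add]
        | rw [← add_assoc, sp_add_self, zero_add]
        | rw [add_right_comm, sp_add_self, zero_add]
  · exact Or.inl (hcases R_isom R_perp (p.trans p'.symm) (q.trans q'.symm))

theorem nonabelian_vec (S : Setup z Q e) {W : Subgroup G} (hWQ : W ≤ Q)
    (hna : ¬ IsMulCommutative W) : ∃ a b, (∃ i, el e a i ∈ W) ∧ (∃ i, el e b i ∈ W) ∧ alt a b = 1 := by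
  by_contra! hc
  refine hna ⟨⟨fun u v => Subtype.ext ?_⟩⟩
  obtain ⟨a, i, hu⟩ := Setup.exists_el (e := e) (hWQ u.2)
  obtain ⟨b, j, hv⟩ := Setup.exists_el (e := e) (hWQ v.2)
  have h := (z2_cases (alt a b)).resolve_right (hc a b ⟨i, hu ▸ u.2⟩ ⟨j, hv ▸ v.2⟩)
  show (u : G) * v = v * u
  rw [hu, hv, S.el_comm a b i j, h, Setup.el_zero, one_mul]

set_option maxHeartbeats 2000000 in
theorem act_plane {ρ : G} (T : Tri z Q e ρ) {x₀ : G} (hxz : x₀ * z = z * x₀)
    (h3 : x₀ * x₀ * x₀ = 1) (hcard : Nat.card ↥⁅Q, zpowers x₀⁆ = 8)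
    (hna : ¬ IsMulCommutative ↥⁅Q, zpowers x₀⁆) :
    ∃ c ∈ centralizer ({z} : Set G),
      (∀ v, act e (c * x₀ * c⁻¹) v = R v) ∨ (∀ v, act e (c * x₀ * c⁻¹) v = R (R v)) := by
  classical
  have S := T.setup
  have hxC : x₀ ∈ centralizer ({z} : Set G) := mem_centralizer_singleton_iff.2 hxz
  set t := act e x₀ with ht
  have hti : Isom t := S.act_isom hxC
  have ht3 : ∀ v, t (t (t v)) = v := fun v => by
    rw [ht, ← S.act_mul hxC hxC, ← S.act_mul (mul_mem hxC hxC) hxC, h3, S.act_one]
  set W := ⁅Q, zpowers x₀⁆ with hW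
  have hzp : ∀ {g : G}, g ∈ zpowers x₀ → g ∈ centralizer ({z} : Set G) :=
    fun hg => zpowers_le.2 hxC hg
  have hWQ : W ≤ Q := by
    rw [hW, commutator_le]
    intro q hq g hg
    rw [commutatorElement_def, show q * g * q⁻¹ * g⁻¹ = q * (g * q⁻¹ * g⁻¹) by group]
    exact mul_mem hq (S.conj_mem (hzp hg) (inv_mem hq))
  -- the vectors of `W`
  have hvec : ∀ u, ∃ i, el e (u + t u) i ∈ W := by
    intro u
    obtain ⟨j, hj⟩ : ∃ j, (el e u 0)⁻¹ = el e u j := by
      refine ⟨qd u, inv_eq_of_mul_eq_one_right ?_⟩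
      rw [Setup.el_mul, sp_add_self u, zero_add]
      show el e 0 (qd u + qd u) = 1
      rw [z2_add_self, Setup.el_zero]
    obtain ⟨k, hk⟩ := S.conj_el hxC u j
    refine ⟨0 + k + beta (ff 4) u (t u), ?_⟩
    rw [← Setup.el_mul, show el e (t u) k = x₀ * (el e u 0)⁻¹ * x₀⁻¹ by rw [hj, hk],
      show el e u 0 * (x₀ * (el e u 0)⁻¹ * x₀⁻¹) = ⁅el e u 0, x₀⁆ by rw [commutatorElement_def]; group]
    exact commutator_mem_commutator (Setup.el_mem _ _) (mem_zpowers _)
  obtain ⟨a, b, ⟨ia, haW⟩, ⟨ib, hbW⟩, hab⟩ := nonabelian_vec S hWQ hna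
  have hzW : z ∈ W := by
    have h := mul_mem (mul_mem haW hbW) (mul_mem (inv_mem haW) (inv_mem hbW))
    rw [← mul_assoc, S.el_comm a b ia ib, hab, S.el_one] at h
    simpa [mul_assoc] using h
  have hadd : ∀ {v w : Sp 4}, (∃ i, el e v i ∈ W) → (∃ i, el e w i ∈ W) → ∃ i, el e (v + w) i ∈ W := by
    rintro v w ⟨i, hi⟩ ⟨j, hj⟩
    exact ⟨_, Setup.el_mul (e := e) v w i j ▸ mul_mem hi hj⟩
  have hmem : ∀ {v : Sp 4}, (∃ i, el e v i ∈ W) → ∀ k, el e v k ∈ W := by
    rintro v ⟨i, hi⟩ k
    rcases eq_or_ne k i with rfl | hne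
    · exact hi
    · have : k = i + 1 := (by decide : ∀ k i : ZMod 2, k ≠ i → k = i + 1) k i hne
      rw [this, S.el_add_one]
      exact mul_mem hi hzW
  have n1 : a ≠ 0 := fun h => by rw [h, alt_zero_left] at hab; exact absurd hab (by decide)
  have n2 : b ≠ 0 := fun h => by rw [h, alt_zero_right] at hab; exact absurd hab (by decide)
  have n3 : a ≠ b := fun h => by rw [h, alt_self] at hab; exact absurd hab (by decide)
  have n4 : a + b ≠ 0 := fun h => n3 (by rw [← add_zero a, ← sp_add_self b, ← add_assoc, h, zero_add])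
  have n5 : a + b ≠ a := fun h => n2 (by simpa using h)
  have n6 : a + b ≠ b := fun h => n1 (by simpa using h)
  -- there are only four
  have honly : ∀ {v : Sp 4}, (∃ i, el e v i ∈ W) → v = 0 ∨ v = a ∨ v = b ∨ v = a + b := by
    intro v hv
    by_contra! hc
    obtain ⟨h1, h2, h3', h4⟩ := hc
    let f : Fin 5 → Sp 4 := ![0, a, b, a + b, v]
    have hf : Function.Injective f := by
      intro i j h
      fin_cases i <;> fin_cases j <;> simp [f] at h ⊢ <;>
        first
          | exact absurd h n1 | exact absurd h.symm n1 | exact absurd h n2 | exact absurd h.symm n2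
          | exact absurd h n3 | exact absurd h.symm n3 | exact absurd h n4 | exact absurd h.symm n4
          | exact absurd h n5 | exact absurd h.symm n5 | exact absurd h n6 | exact absurd h.symm n6
          | exact absurd h h1 | exact absurd h.symm h1 | exact absurd h h2 | exact absurd h.symm h2
          | exact absurd h h3' | exact absurd h.symm h3' | exact absurd h h4 | exact absurd h.symm h4
    have hz0 : ∃ i, el e (0 : Sp 4) i ∈ W := ⟨1, S.el_one.symm ▸ hzW⟩
    have hfW : ∀ i, ∃ k, el e (f i) k ∈ W := by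
      intro i
      fin_cases i
      exacts [hz0, ⟨ia, haW⟩, ⟨ib, hbW⟩, hadd ⟨ia, haW⟩ ⟨ib, hbW⟩, hv]
    let F : Fin 5 × ZMod 2 → W := fun p => ⟨el e (f p.1) p.2, hmem (hfW p.1) p.2⟩
    have hF : Function.Injective F := fun p q h => by
      obtain ⟨h1, h2⟩ := Setup.el_inj (e := e) (congrArg Subtype.val h :)
      exact Prod.ext (hf h1) h2
    have := Nat.card_le_card_of_injective F hF
    rw [hcard] at this
    simp [Nat.card_eq_fintype_card] at this
  have hperp : ∀ v, alt v a = 0 → alt v b = 0 → t v = v := by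
    intro v va vb
    have h0 : ∀ w, alt w (t v + v) = 0 := by
      intro w
      have key : alt (t (t w) + w) v = 0 := by
        have e1 : t (t w) + w = (w + t w) + (t w + t (t w)) := by
          rw [add_assoc w, ← add_assoc (t w) (t w), sp_add_self, zero_add, add_comm]
        rw [e1, alt_add_left]
        have hz' : ∀ u, alt (u + t u) v = 0 := fun u => by
          rcases honly (hvec u) with h | h | h | h <;> rw [h]
          · exact alt_zero_left _
          · rw [alt_comm, va]
          · rw [alt_comm, vb]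
          · rw [alt_add_left, alt_comm, va, alt_comm, vb, add_zero]
        rw [hz' w, hz' (t w), add_zero]
      rw [alt_add_right]
      have h1 : alt (t (t w)) v = alt w (t v) := by
        rw [← hti.map_alt, ht3]
      rw [alt_add_left, h1] at key
      exact key
    have h1 := eq_of_alt (v := t v + v) (w := 0) fun u => by rw [alt_comm, h0 u, alt_zero_left]
    calc t v = t v + (v + v) := by rw [sp_add_self, add_zero]
      _ = (t v + v) + v := (add_assoc _ _ _).symm
      _ = v := by rw [h1, zero_add]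
  -- `t` permutes the three vectors
  have hstab : ∀ v, (v = a ∨ v = b) → t v = a ∨ t v = b ∨ t v = a + b := by
    intro v hv
    have hv0 : v ≠ 0 := by rcases hv with rfl | rfl <;> assumption
    have htv0 : t v ≠ 0 := fun h => hv0 (hti.injective (h.trans hti.map_zero.symm))
    have hvW : ∃ i, el e v i ∈ W := by
      rcases hv with rfl | rfl
      exacts [⟨ia, haW⟩, ⟨ib, hbW⟩]
    have e1 : t v = v + (v + t v) := by rw [← add_assoc, sp_add_self, zero_add]
    have hw' := hadd hvW (hvec v)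
    rw [← e1] at hw'
    rcases honly hw' with h | h
    · exact absurd h htv0
    · exact h
  have hx₀Q : x₀ ∉ Q := fun hq => by
    have h1 : orderOf x₀ ∣ 3 := orderOf_dvd_of_pow_eq_one (by rw [pow_succ, pow_two]; exact h3)
    have h2 : orderOf x₀ ∣ 512 := by
      have h := orderOf_dvd_natCard (⟨x₀, hq⟩ : Q)
      rw [Subgroup.orderOf_mk, Nat.card_congr e.toEquiv, card_ES] at h
      simpa using h
    have hx1 : x₀ = 1 := orderOf_eq_one_iff.1 (Nat.dvd_one.1 (by simpa using Nat.dvd_gcd h1 h2))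
    have : W = ⊥ := by rw [hW, hx1, zpowers_one_eq_bot, commutator_bot_right]
    rw [this, card_bot] at hcard
    omega
  have hne : ∃ u, t u ≠ u := by
    by_contra! h
    exact hx₀Q (S.mem_of_act hxC h)
  obtain ⟨hqa, hvals⟩ := plane_form hti ht3 hne hab hperp (hstab a (Or.inl rfl)) (hstab b (Or.inr rfl))
  obtain ⟨g, ⟨c, hc, hcg⟩, hgi, hga, hgb⟩ := exists_to_std S.evenP hqa.1 hqa.2 hab
  refine ⟨c, hc, ?_⟩
  have hci : c⁻¹ ∈ centralizer ({z} : Set G) := inv_mem hc
  have hinv : ∀ v, act e c⁻¹ (g v) = v := fun v => by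
    rw [← hcg, ← S.act_mul hci hc, inv_mul_cancel, S.act_one]
  have hconj : ∀ v, act e (c * x₀ * c⁻¹) (g v) = g (t v) := fun v => by
    rw [S.act_mul (mul_mem hc hxC) hci, hinv, S.act_mul hc hxC, hcg]
  exact compare hgi hga hgb (S.act_isom (mul_mem (mul_mem hc hxC) hci)) hconj hperp hvals

/-- The element is conjugate to the rotation or its inverse. -/
theorem exists_conj {ρ : G} (T : Tri z Q e ρ) {x : G} (X : Rot T x) {x₀ : G} (hxz : x₀ * z = z * x₀)
    (h3 : x₀ * x₀ * x₀ = 1) (hcard : Nat.card ↥⁅Q, zpowers x₀⁆ = 8)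
    (hna : ¬ IsMulCommutative ↥⁅Q, zpowers x₀⁆) :
    ∃ g : G, g * x * g⁻¹ = x₀ ∨ g * x * g⁻¹ = x₀⁻¹ := by
  have S := T.setup
  obtain ⟨c, hc, h⟩ := act_plane T hxz h3 hcard hna
  have hxC : x₀ ∈ centralizer ({z} : Set G) := mem_centralizer_singleton_iff.2 hxz
  set y := c * x₀ * c⁻¹ with hy
  have hyC : y ∈ centralizer ({z} : Set G) := mul_mem (mul_mem hc hxC) (inv_mem hc)
  have hy3 : y * y * y = 1 := SuzY.cube_conj h3
  have hQp : IsPGroup 2 Q := IsPGroup.of_card (n := 9) (by
    rw [Nat.card_congr e.toEquiv, card_ES])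
  have hxn : ∀ {w : G}, w ∈ centralizer ({z} : Set G) → w ∈ normalizer (Q : Set G) := fun {w} hw =>
    mem_normalizer_iff.2 fun q => ⟨fun hq => S.conj_mem hw hq, fun hq => by
      have := S.conj_mem (inv_mem hw) hq
      rwa [show w⁻¹ * (w * q * w⁻¹) * w⁻¹⁻¹ = q by group] at this⟩
  have key : ∀ u : G, u ∈ centralizer ({z} : Set G) → u * u * u = 1 → (∀ v, act e y v = act e u v) →
      ∃ g, g * u * g⁻¹ = x₀ := by
    intro u hu hu3 hact
    have hmem : u⁻¹ * y ∈ Q := S.mem_of_act (mul_mem (inv_mem hu) hyC) fun v => by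
      rw [S.act_mul (inv_mem hu) hyC, hact, ← S.act_mul (inv_mem hu) hu, inv_mul_cancel, S.act_one]
    obtain ⟨q, -, hq⟩ := SuzY.coset_conj hQp hu3 (hxn hu) hy3 hmem
    refine ⟨c⁻¹ * q⁻¹, ?_⟩
    rw [← hq, hy]
    group
  rcases h with h | h
  · obtain ⟨g, hg⟩ := key x (x_mem T X) (x_three T X) fun v => by rw [h, act_x T X]
    exact ⟨g, Or.inl hg⟩
  · obtain ⟨g, hg⟩ := key (x * x) (mul_mem (x_mem T X) (x_mem T X))
      (by rw [show x * x * (x * x) * (x * x) = x * x * x * (x * x * x) by group, x_three T X, one_mul])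
      fun v => by rw [h, S.act_mul (x_mem T X) (x_mem T X), act_x T X, act_x T X]
    refine ⟨g, Or.inr ?_⟩
    rw [← hg, show x * x = x⁻¹ from (inv_eq_of_mul_eq_one_right (by rw [← mul_assoc, x_three T X])).symm]
    group

end CfsgLib.InvChar.SuzCo
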