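import Cfsg.Agent.Lib.InvChar.SuzCo.Derived
import Cfsg.Agent.Lib.InvChar.SuzCo.Normalise
import Cfsg.Agent.Lib.InvChar.SuzCo.Conway
import Cfsg.Agent.Lib.InvChar.SuzUniq.Main
import Cfsg.Agent.Lib.Comp.Quasisimple

/-!
# In a group of Conway type the centraliser of an element of order three is a cover of Suz
-/

set_option autoImplicit false
set_option linter.unusedSectionVars false
set_option linter.style.haveILetI false

namespace CfsgLib.InvChar.SuzCo

open Subgroup CfsgLib.Trans3.ExtraTwo CfsgLib.ClassK.Conway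

section

variable {G : Type*} [Group G] [Finite G] {z : G} {Q : Subgroup G} {e : ↥Q ≃* ES 4 (ff 4)} {ρ : G}
  (T : Tri z Q e ρ) {x : G} (X : Rot T x)
include T X

theorem quasisimple_cent : Cfsg.IsQuasisimple ↥(centralizer ({x} : Set G)) := by
  set C := centralizer ({x} : Set G) with hC
  have hcenN : ∀ c : C, (c : G) ∈ zpowers x → ∀ d : C, c * d = d * c := by
    rintro c ⟨i, hi⟩ d
    refine Subtype.ext ?_
    show (c : G) * d = d * c
    rw [← hi]
    exact ((show Commute x (d : G) from (mem_centralizer_singleton_iff.1 d.2).symm).zpow_left i).eq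
  haveI : ((zpowers x).subgroupOf C).Normal := ⟨fun n hn c => by
    rw [← hcenN n hn c, mul_inv_cancel_right]; exact hn⟩
  obtain ⟨hs, hna⟩ := (suz_hyp T X).simple
  set N := (zpowers x).subgroupOf C with hN
  haveI := hs
  obtain ⟨x₂, k, l, W⟩ := exists_second T X
  have hperf : commutator ↥C = ⊤ := by
    have h1 : (commutator ↥C).map (QuotientGroup.mk' N) = ⊤ := by
      rw [_root_.commutator_def, Subgroup.map_commutator,
        Subgroup.map_top_of_surjective _ (QuotientGroup.mk'_surjective N), ← _root_.commutator_def,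
        Invol.commutator_eq_top_of_simple hna]
    have h2 : N ≤ commutator ↥C := by
      intro g hg
      have hxd : (⟨x, mem_centralizer_singleton_iff.2 rfl⟩ : ↥C) ∈ commutator ↥C := by
        have h := x_mem_derived T X W
        rw [← hC, show ⁅C, C⁆ = (commutator ↥C).map C.subtype by
          rw [_root_.commutator_def, Subgroup.map_commutator, ← MonoidHom.range_eq_map, C.range_subtype]] at h
        obtain ⟨d, hd, e⟩ := h
        rwa [show (⟨x, mem_centralizer_singleton_iff.2 rfl⟩ : ↥C) = d from Subtype.ext e.symm]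
      obtain ⟨k, hk⟩ := mem_subgroupOf.1 hg
      rw [show g = (⟨x, mem_centralizer_singleton_iff.2 rfl⟩ : ↥C) ^ k from Subtype.ext hk.symm]
      exact zpow_mem hxd k
    have h3 := congrArg (Subgroup.comap (QuotientGroup.mk' N)) h1
    rwa [comap_map_eq_self (by rwa [QuotientGroup.ker_mk']), comap_top] at h3
  have hcen : center ↥C = N := by
    refine le_antisymm (fun g hg => ?_) fun g hg => Subgroup.mem_center_iff.2 fun d => (hcenN g hg d).symm
    rw [← QuotientGroup.eq_one_iff]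
    by_contra hne
    rcases (inferInstance : (center (↥C ⧸ N)).Normal).eq_bot_or_eq_top with e | e
    · have : (g : ↥C ⧸ N) ∈ center (↥C ⧸ N) := Subgroup.mem_center_iff.2 fun d => by
        obtain ⟨d, rfl⟩ := QuotientGroup.mk'_surjective N d
        rw [QuotientGroup.mk'_apply, ← QuotientGroup.mk_mul, ← QuotientGroup.mk_mul,
          Subgroup.mem_center_iff.1 hg d]
      rw [e, mem_bot] at this
      exact hne this
    · exact hna ⟨⟨fun a b => Subgroup.mem_center_iff.1 (e ▸ mem_top b) a⟩⟩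
  exact ⟨⟨hperf⟩, (QuotientGroup.quotientMulEquivOfEq hcen).isSimpleGroup_congr.2 hs⟩

theorem suz_quot [((zpowers x).subgroupOf (centralizer ({x} : Set G))).Normal] :
    Cfsg.Spor.IsoSuz (↥(centralizer ({x} : Set G)) ⧸ (zpowers x).subgroupOf (centralizer ({x} : Set G))) := by
  obtain ⟨zb, hzb, Qb, hn, hF, hQ, hc, ⟨eQ⟩, hnwc⟩ := suz_hyp T X
  exact SuzUniq.iso_of_type zb hzb Qb hF hQ hc eQ hnwc

end

/-- The theorem. -/
theorem cover_suz {G : Type*} [Group G] [Finite G] (z : G) (hz : orderOf z = 2)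
    (Q : Subgroup (centralizer ({z} : Set G))) [Q.Normal]
    (hF : Cfsg.generalizedFittingSubgroup (centralizer ({z} : Set G)) = Q)
    (hQ : Cfsg.IsExtraspecial 2 Q) (hcard : Nat.card Q = 2 ^ 9)
    (e : (centralizer ({z} : Set G)) ⧸ Q ≃* Cfsg.Omega (ZMod 2) (Cfsg.quadFormPlus 4 (ZMod 2)))
    (hnwc : ∃ g : G, (∃ hq : g * z * g⁻¹ ∈ centralizer ({z} : Set G),
      (⟨g * z * g⁻¹, hq⟩ : centralizer ({z} : Set G)) ∈ Q) ∧ g * z * g⁻¹ ≠ z)
    (X : Subgroup (centralizer ({z} : Set G))) (hX : Nat.card X = 3) (hQX : Nat.card ↥⁅Q, X⁆ = 8)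
    (hQXna : ¬ IsMulCommutative ↥⁅Q, X⁆) (X' C' : Subgroup G)
    (hX' : X' = X.map (centralizer ({z} : Set G)).subtype) (hC' : C' = centralizer (X' : Set G))
    [(X'.subgroupOf C').Normal] :
    Cfsg.IsQuasisimple ↥C' ∧ Cfsg.Spor.IsoSuz (↥C' ⧸ X'.subgroupOf C') := by
  classical
  let C := centralizer ({z} : Set G)
  let QG : Subgroup G := Q.map C.subtype
  have hQC : QG ≤ C := map_subtype_le _
  have hsub : QG.subgroupOf C = Q := comap_map_eq_self_of_injective C.subtype_injective _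
  let eq : ↥Q ≃* ↥QG := Q.equivMapOfInjective _ C.subtype_injective
  have hpack := PLocal.LargeExtra.pack_of_fstar hz hQC (by rw [hF])
    (Trans3.LargeLinear.isExtraspecial_of_equiv eq hQ)
  haveI : (QG.subgroupOf C).Normal := by rw [hsub]; infer_instance
  obtain ⟨g, ⟨hq, hmem⟩, hne⟩ := hnwc
  obtain ⟨ε, S⟩ := exists_setup hpack hQC (by rw [← hcard]; exact (Nat.card_congr eq.toEquiv).symm)
    (by rw [hsub, Subgroup.index_eq_card, Nat.card_congr e.toEquiv, card_omega8plus])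
    ⟨g, ⟨_, hmem, rfl⟩, hne⟩
  obtain ⟨ρ, T⟩ := S.exists_tri
  obtain ⟨x, R⟩ := exists_rot T
  haveI : Fact (Nat.Prime 3) := ⟨Nat.prime_three⟩
  obtain ⟨x₁, hx₁⟩ := (isCyclic_of_prime_card hX).exists_generator
  obtain ⟨x₀, hx₀⟩ : ∃ x₀, x₀ = ((x₁ : C) : G) := ⟨_, rfl⟩
  have hXz : X' = zpowers x₀ := by
    rw [hX', hx₀]
    refine le_antisymm ?_ (zpowers_le.2 ⟨_, x₁.2, rfl⟩)
    rintro _ ⟨a, ha, rfl⟩
    obtain ⟨k, hk⟩ := hx₁ ⟨a, ha⟩
    exact ⟨k, congrArg (fun u : ↥X => ((u : C) : G)) hk⟩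
  have hxz : x₀ * z = z * x₀ := by rw [hx₀]; exact mem_centralizer_singleton_iff.1 (x₁ : C).2
  have hx3 : x₀ * x₀ * x₀ = 1 := by
    have h1 : x₁ ^ Nat.card X = 1 := pow_card_eq_one'
    rw [hX] at h1
    have h2 := congrArg (fun u : ↥X => ((u : C) : G)) h1
    simpa [pow_succ, ← hx₀] using h2
  have hKmap : ⁅QG, zpowers x₀⁆ = (⁅Q, X⁆).map C.subtype := by
    rw [Subgroup.map_commutator, ← hX', hXz]
  obtain ⟨g₀, hg₀⟩ := exists_conj T R hxz hx3
    (by rw [hKmap, card_map_of_injective C.subtype_injective, hQX])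
    (fun h => hQXna ⟨⟨fun a b => by
      have hm : ∀ u : ↥⁅Q, X⁆, ((u : C) : G) ∈ ⁅QG, zpowers x₀⁆ := fun u => by
        rw [hKmap]; exact mem_map_of_mem C.subtype u.2
      have h1 := congrArg Subtype.val (h.is_comm.comm ⟨_, hm a⟩ ⟨_, hm b⟩)
      exact Subtype.ext (Subtype.ext (by simpa using h1))⟩⟩)
  have hz₀ : zpowers (g₀ * x * g₀⁻¹) = zpowers x₀ := by
    rcases hg₀ with h | h <;> rw [h]
    rw [zpowers_inv]
  have hXg : X' = (zpowers x).map (MulAut.conj g₀).toMonoidHom := by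
    rw [hXz, MonoidHom.map_zpowers, ← hz₀]; rfl
  have hCg : C' = (centralizer ({x} : Set G)).map (MulAut.conj g₀).toMonoidHom := by
    rw [hC', hXz, ← hz₀, zpowers_eq_closure, centralizer_closure]
    ext c
    rw [mem_centralizer_singleton_iff, mem_map_equiv, mem_centralizer_singleton_iff,
      MulAut.conj_symm_apply]
    constructor
    · intro h
      calc g₀⁻¹ * c * g₀ * x = g₀⁻¹ * (c * (g₀ * x * g₀⁻¹)) * g₀ := by group
        _ = g₀⁻¹ * ((g₀ * x * g₀⁻¹) * c) * g₀ := by rw [h]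
        _ = _ := by group
    · intro h
      calc c * (g₀ * x * g₀⁻¹) = g₀ * (g₀⁻¹ * c * g₀ * x) * g₀⁻¹ := by group
        _ = g₀ * (x * (g₀⁻¹ * c * g₀)) * g₀⁻¹ := by rw [h]
        _ = _ := by group
  haveI : ((zpowers x).subgroupOf (centralizer ({x} : Set G))).Normal := ⟨fun n hn c => by
    obtain ⟨i, hi⟩ := (mem_subgroupOf.1 hn)
    refine mem_subgroupOf.2 ?_
    simp only [Subgroup.coe_mul, InvMemClass.coe_inv, ← hi]
    rw [((show Commute (c : G) x from mem_centralizer_singleton_iff.1 c.2).zpow_right i).eq,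
      mul_inv_cancel_right]
    exact ⟨i, rfl⟩⟩
  obtain ⟨ψ⟩ : Nonempty (↥(centralizer ({x} : Set G)) ≃* ↥C') :=
    ⟨((centralizer ({x} : Set G)).equivMapOfInjective _ (MulAut.conj g₀).injective).trans
      (MulEquiv.subgroupCongr hCg.symm)⟩
  refine ⟨Comp.isQuasisimple_congr ψ (quasisimple_cent T R), ?_⟩
  obtain ⟨f⟩ := suz_quot T R
  let φ : ↥(centralizer ({x} : Set G)) ≃* ↥C' :=
    ((centralizer ({x} : Set G)).equivMapOfInjective _ (MulAut.conj g₀).injective).trans
      (MulEquiv.subgroupCongr hCg.symm)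
  refine ⟨(QuotientGroup.congr ((zpowers x).subgroupOf _) (X'.subgroupOf C') φ ?_).symm.trans f⟩
  ext c
  rw [mem_subgroupOf, hXg]
  constructor
  · rintro ⟨a, ha, rfl⟩
    exact ⟨a, ha, rfl⟩
  · rintro ⟨a, ha, hac⟩
    obtain ⟨b, rfl⟩ := φ.surjective c
    have : (b : G) = a := (MulAut.conj g₀).injective hac.symm
    exact ⟨b, by show (b : G) ∈ zpowers x; rw [this]; exact ha, rfl⟩

end CfsgLib.InvChar.SuzCo
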