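import Cfsg.Agent.Lib.InvChar.SuzCo.Image
import Cfsg.Agent.Lib.Amalgam.PCore
import Cfsg.Agent.Lib.Comp.Local

/-!
# The centraliser of the element of order three modulo that element has Suzuki type
-/

set_option autoImplicit false
set_option linter.unusedSectionVars false
set_option maxRecDepth 10000

namespace CfsgLib.InvChar.SuzCo

open Subgroup CfsgLib.Trans3.ExtraTwo CfsgLib.ClassK.Conway

/-- The hypothesis of a group of Suzuki sporadic type. -/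
def SuzHyp (S : Type*) [Group S] : Prop :=
  ∃ z : S, orderOf z = 2 ∧ ∃ (Q : Subgroup (Subgroup.centralizer ({z} : Set S))) (_ : Q.Normal),
    Cfsg.generalizedFittingSubgroup (Subgroup.centralizer ({z} : Set S)) = Q ∧ Cfsg.IsExtraspecial 2 Q ∧
    Nat.card Q = 2 ^ 7 ∧ Nonempty ((Subgroup.centralizer ({z} : Set S)) ⧸ Q ≃*
      Cfsg.Omega (ZMod 2) (Cfsg.quadFormMinus 2 (ZMod 2) 1 1)) ∧
    ∃ g : S, (∃ hq : g * z * g⁻¹ ∈ Subgroup.centralizer ({z} : Set S),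
      (⟨g * z * g⁻¹, hq⟩ : Subgroup.centralizer ({z} : Set S)) ∈ Q) ∧ g * z * g⁻¹ ≠ z

/-- Suzuki type gives simplicity. -/
theorem SuzHyp.simple {S : Type*} [Group S] [Finite S] (h : SuzHyp S) :
    IsSimpleGroup S ∧ ¬ IsMulCommutative S := by
  obtain ⟨z, hz, Q, hn, hF, hQ, hc, ⟨e⟩, hnwc⟩ := h
  exact simple_of_type z hz Q hF hQ hc e hnwc

variable {G : Type*} [Group G] [Finite G] {z : G} {Q : Subgroup G} {e : ↥Q ≃* ES 4 (ff 4)} {ρ : G}
  (T : Tri z Q e ρ) {x : G} (X : Rot T x)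
include T X

theorem Q_zpowers {g : G} (hg : g ∈ Q) (hgx : g ∈ zpowers x) : g = 1 := by
  have h1 : orderOf g ∣ 3 := by
    rw [← order_x T X, ← Nat.card_zpowers x]
    have := orderOf_dvd_natCard (⟨g, hgx⟩ : zpowers x)
    rwa [Subgroup.orderOf_mk] at this
  have h2 : orderOf g ∣ 512 := by
    have h := orderOf_dvd_natCard (⟨g, hg⟩ : Q)
    rw [Subgroup.orderOf_mk, Nat.card_congr e.toEquiv, card_ES] at h
    simpa using h
  exact orderOf_eq_one_iff.1 (Nat.dvd_one.1 (by simpa using Nat.dvd_gcd h1 h2))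

theorem suz_data [((zpowers x).subgroupOf (centralizer ({x} : Set G))).Normal]
    (hzC : z ∈ centralizer ({x} : Set G))
    (zb : ↥(centralizer ({x} : Set G)) ⧸ (zpowers x).subgroupOf (centralizer ({x} : Set G)))
    (hzb : zb = QuotientGroup.mk' _ ⟨z, hzC⟩) :
    orderOf zb = 2 ∧ ∃ (Qb : Subgroup (centralizer ({zb} : Set _))) (_ : Qb.Normal),
      Cfsg.generalizedFittingSubgroup (centralizer ({zb} : Set _)) = Qb ∧ Cfsg.IsExtraspecial 2 Qb ∧
      Nat.card Qb = 2 ^ 7 ∧ Nonempty (↥(centralizer ({zb} : Set _)) ⧸ Qb ≃*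
        Cfsg.Omega (ZMod 2) (Cfsg.quadFormMinus 2 (ZMod 2) 1 1)) ∧
      (∃ g, (∃ hq : g * zb * g⁻¹ ∈ centralizer ({zb} : Set _),
        (⟨g * zb * g⁻¹, hq⟩ : centralizer ({zb} : Set _)) ∈ Qb) ∧ g * zb * g⁻¹ ≠ zb) ∧
      ∀ v, v ∈ Qb ↔ ∃ q, ∃ hq : q ∈ Qx T X,
        QuotientGroup.mk' _ (⟨q, hq.2⟩ : centralizer ({x} : Set G)) = Subtype.val v := by
  classical
  haveI : Fact (Nat.Prime 2) := ⟨Nat.prime_two⟩
  have S := T.setup
  set C := centralizer ({x} : Set G) with hC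
  set N := (zpowers x).subgroupOf C with hN
  set π := QuotientGroup.mk' N with hπdef
  have hπ1 : ∀ c : C, π c = 1 ↔ (c : G) ∈ zpowers x := fun c => QuotientGroup.eq_one_iff c
  replace hzC : z ∈ C := hzC
  subst hzb
  set zb := π ⟨z, hzC⟩ with hzb
  have hzb2 : orderOf zb = 2 := orderOf_eq_prime
    (by rw [hzb, ← map_pow, show (⟨z, hzC⟩ : C) ^ 2 = 1 from Subtype.ext (by
      simp [pow_two, S.pack.z_mul_z]), map_one])
    fun h => S.pack.z_ne (Q_zpowers T X S.pack.mem ((hπ1 _).1 h))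
  set Cs := centralizer ({zb} : Set (C ⧸ N)) with hCs
  let p : Hx T X →* Cs := (π.comp (inclusion inf_le_left)).codRestrict Cs fun h =>
    mem_centralizer_singleton_iff.2 (by
      show π (inclusion inf_le_left h) * π ⟨z, hzC⟩ = π ⟨z, hzC⟩ * π (inclusion inf_le_left h)
      rw [← map_mul, ← map_mul]
      exact congrArg π (Subtype.ext (((mem_Hx T X).1 h.2).2)))
  have hp_val : ∀ h : Hx T X, ((p h : Cs) : C ⧸ N) = π ⟨(h : G), h.2.1⟩ := fun h => rfl
  have hp1 : ∀ h : Hx T X, p h = 1 ↔ (h : G) ∈ zpowers x := fun h =>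
    ⟨fun e => (hπ1 _).1 (congrArg Subtype.val e), fun e => Subtype.ext ((hπ1 _).2 e)⟩
  have hp : Function.Surjective p := by
    rintro ⟨y, hy⟩
    obtain ⟨c, rfl⟩ := QuotientGroup.mk'_surjective N y
    have hk : π ((⟨z, hzC⟩ : C)⁻¹ * (c * ⟨z, hzC⟩ * c⁻¹)) = 1 := by
      rw [map_mul, map_mul, map_mul, map_inv, map_inv, mem_centralizer_singleton_iff.1 hy,
        mul_inv_cancel_right, inv_mul_cancel]
    obtain ⟨i, hi⟩ := mem_zpowers_iff.1 ((hπ1 _).1 hk)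
    simp only [Subgroup.coe_mul, InvMemClass.coe_inv] at hi
    have hkz : x ^ i * z = z * x ^ i :=
      ((show Commute x z from (X.lev.1.1)).zpow_left i).eq
    have e1 : (c : G) * z * (c : G)⁻¹ = z * x ^ i := by rw [hi, mul_inv_cancel_left]
    have h2 : x ^ i * x ^ i = 1 := by
      have h3 : (c : G) * z * (c : G)⁻¹ * ((c : G) * z * (c : G)⁻¹) = 1 := by
        rw [show (c : G) * z * (c : G)⁻¹ * ((c : G) * z * (c : G)⁻¹) = c * (z * z) * (c : G)⁻¹ by group,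
          S.pack.z_mul_z]
        group
      rw [e1, show z * x ^ i * (z * x ^ i) = z * (x ^ i * z) * x ^ i by group, hkz, ← mul_assoc,
        S.pack.z_mul_z, one_mul] at h3
      exact h3
    have h3 : x ^ i * x ^ i * x ^ i = 1 := by
      rw [← zpow_add, ← zpow_add, show i + i + i = 3 * i by omega, zpow_mul,
        show x ^ (3 : ℤ) = 1 by rw [zpow_ofNat, pow_succ, pow_two]; exact x_three T X, one_zpow]
    rw [h2, one_mul] at h3
    rw [h3, mul_one, mul_inv_eq_iff_eq_mul] at e1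
    exact ⟨⟨c, (mem_Hx T X).2 ⟨mem_centralizer_singleton_iff.1 c.2, e1⟩⟩, Subtype.ext rfl⟩
  -- the image of the fixed part of `Q`
  let fQ : Qx T X →* Cs := p.comp (inclusion (Qx_le T X))
  have hfQ : Function.Injective fQ := (injective_iff_map_eq_one _).2 fun q hq =>
    Subtype.ext (Q_zpowers T X q.2.1 ((hp1 _).1 hq))
  set Qb := fQ.range with hQb
  have hQbn : Qb.Normal := by
    refine ⟨fun a ha y => ?_⟩
    obtain ⟨q, rfl⟩ := ha
    obtain ⟨h, rfl⟩ := hp y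
    have hhx : (h : G) ∈ centralizer ({x} : Set G) := h.2.1
    have hqx : (q : G) ∈ centralizer ({x} : Set G) := q.2.2
    have hmem : (h : G) * q * (h : G)⁻¹ ∈ Qx T X := mem_inf.2
      ⟨S.conj_mem (Hx_le_z T X h.2) q.2.1, mul_mem (mul_mem hhx hqx) (inv_mem hhx)⟩
    refine ⟨⟨_, hmem⟩, ?_⟩
    show p _ = p h * p _ * (p h)⁻¹
    rw [← map_inv, ← map_mul, ← map_mul]
    exact congrArg p (Subtype.ext rfl)
  have hQc : Nat.card Qb = 2 ^ 7 := by
    rw [← Nat.card_congr (MonoidHom.ofInjective hfQ).toEquiv, card_Qx T X]; norm_num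
  have hQes : Cfsg.IsExtraspecial 2 Qb :=
    HJType.extraspecial_of_equiv (MonoidHom.ofInjective hfQ) (extraspecial_Qx T X)
  -- the action on the fixed space
  obtain ⟨Φ, hΦ⟩ := exists_hom T X
  have hrange := range_eq T X hΦ
  let Φ' : Hx T X →* ↥(Cfsg.Omega (ZMod 2) Amalgam.SixMinus.Q2) :=
    Φ.codRestrict _ fun h => hrange ▸ ⟨h, rfl⟩
  have hΦx : ∀ h : Hx T X, (h : G) ∈ zpowers x → Φ h = 1 := by
    intro h hh
    refine (phi_eq_one_iff T X hΦ h).2 fun w => ?_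
    obtain ⟨i, hi⟩ : ∃ i : ℕ, x ^ i = (h : G) := by
      obtain ⟨i, hi⟩ := (mem_powers_iff_mem_zpowers).2 hh
      exact ⟨i, hi⟩
    rw [← hi, act_pow T X]
    exact Function.iterate_fixed (R_J w) i
  let Ψ : Cs →* ↥(Cfsg.Omega (ZMod 2) Amalgam.SixMinus.Q2) :=
    p.liftOfSurjective hp ⟨Φ', fun h hh => Subtype.ext (hΦx h ((hp1 h).1 hh))⟩
  have hΨ : ∀ h, Ψ (p h) = Φ' h := fun h => by
    show p.liftOfSurjective hp _ (p h) = _
    exact MonoidHom.liftOfRightInverse_comp_apply _ _ _ _ _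
  have hΨs : Function.Surjective Ψ := by
    rintro ⟨g, hg⟩
    rw [← hrange] at hg
    obtain ⟨h, rfl⟩ := hg
    exact ⟨p h, hΨ h⟩
  have hmemQb : ∀ h : Hx T X, Φ h = 1 → p h ∈ Qb := by
    intro h h1
    obtain ⟨i, hi⟩ := phi_ker T X hΦ h h1
    refine ⟨⟨_, hi⟩, ?_⟩
    have hxi : x ^ i ∈ Hx T X := pow_mem ((mem_Hx T X).2 ⟨rfl, X.lev.1.1⟩) i
    show p _ = p h
    rw [show inclusion (Qx_le T X) ⟨_, hi⟩ = (⟨x ^ i, hxi⟩ : Hx T X) * h from Subtype.ext rfl, map_mul,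
      (hp1 ⟨x ^ i, hxi⟩).2 (pow_mem (mem_zpowers x) i), one_mul]
  have hker : Ψ.ker = Qb := by
    refine le_antisymm (fun y hy => ?_) ?_
    · obtain ⟨h, rfl⟩ := hp y
      rw [MonoidHom.mem_ker, hΨ] at hy
      exact hmemQb h (congrArg Subtype.val hy)
    · rintro _ ⟨q, rfl⟩
      rw [MonoidHom.mem_ker]
      refine (hΨ _).trans (Subtype.ext ((phi_eq_one_iff T X hΦ _).2 fun w => ?_))
      exact S.act_mem q.2.1 _
  haveI := hQbn
  let eQ : Cs ⧸ Qb ≃* ↥(Cfsg.Omega (ZMod 2) Amalgam.SixMinus.Q2) :=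
    (QuotientGroup.quotientMulEquivOfEq hker.symm).trans (QuotientGroup.quotientKerEquivOfSurjective Ψ hΨs)
  -- the generalised Fitting subgroup
  have hQp : IsPGroup 2 Qb := IsPGroup.of_card hQc
  have hpc : Cfsg.pCore 2 Cs = Qb := by
    refine le_antisymm ?_ (Amalgam.le_pCore hQbn hQp)
    rw [← hker]
    haveI := omega_minus_simple
    haveI := Amalgam.normal_pCore (G := Cs) (p := 2)
    have hn : ((Cfsg.pCore 2 Cs).map Ψ).Normal := Subgroup.Normal.map inferInstance Ψ hΨs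
    rcases hn.eq_bot_or_eq_top with h | h
    · intro y hy
      have : Ψ y ∈ (Cfsg.pCore 2 Cs).map Ψ := mem_map_of_mem _ hy
      rw [h, mem_bot] at this
      exact this
    · exfalso
      obtain ⟨n, hn⟩ := ((Amalgam.isPGroup_pCore (G := Cs) (p := 2)).map Ψ).exists_card_eq
      rw [h, card_top, Amalgam.SixMinus.card_omega] at hn
      have h5 : 5 ∣ 2 ^ n := ⟨5184, by omega⟩
      exact absurd (Nat.Prime.dvd_of_dvd_pow (by norm_num : Nat.Prime 5) h5) (by norm_num)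
  have hF : Cfsg.generalizedFittingSubgroup Cs = Qb := by
    rw [← hpc, Comp.generalizedFitting_eq_pCore_iff 2, hpc]
    intro y hy
    obtain ⟨h, rfl⟩ := hp y
    refine hmemQb h ((phi_eq_one_iff T X hΦ h).2 fun w => ?_)
    have hqm : el e (J w) 0 ∈ Qx T X := (mem_Qx T X).2 ⟨w, 0, rfl⟩
    have hcomm := mem_centralizer_iff.1 hy _ ⟨⟨_, hqm⟩, rfl⟩
    set q := el e (J w) 0 with hq
    set qh : Hx T X := ⟨q, Qx_le T X hqm⟩ with hqh
    change p qh * p h = p h * p qh at hcomm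
    have hk : p (qh⁻¹ * (h * qh * h⁻¹)) = 1 := by
      rw [map_mul, map_mul, map_mul, map_inv, map_inv, ← hcomm, mul_inv_cancel_right, inv_mul_cancel]
    have hzp := (hp1 _).1 hk
    have hkQ : q⁻¹ * ((h : G) * q * (h : G)⁻¹) ∈ Q :=
      mul_mem (inv_mem (Setup.el_mem _ _)) (S.conj_mem (Hx_le_z T X h.2) (Setup.el_mem _ _))
    have h1 := Q_zpowers T X hkQ hzp
    exact S.act_eq (Hx_le_z T X h.2) (k := 0) (k' := 0) (inv_mul_eq_one.1 h1).symm
  -- a conjugate of the involution in the fixed part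
  have hρC : ρ ∈ C := mem_centralizer_singleton_iff.2 X.lev.2.symm
  obtain ⟨hxQ, -, -, hxz, -, -, -⟩ := S.xe_facts
  have hxm : xe e ∈ Qx T X := ⟨hxQ, mem_centralizer_singleton_iff.2 X.lev.1.2.symm⟩
  have hconj : π ⟨ρ, hρC⟩ * zb * (π ⟨ρ, hρC⟩)⁻¹ = ((fQ ⟨_, hxm⟩ : Cs) : C ⧸ N) := by
    rw [hzb, ← map_inv, ← map_mul, ← map_mul]
    exact congrArg π (Subtype.ext T.rho_z)
  refine ⟨hzb2, Qb, hQbn, hF, hQes, hQc, ⟨eQ⟩, ⟨π ⟨ρ, hρC⟩, ⟨?_, ?_⟩, fun h => ?_⟩, fun v => ?_⟩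
  · rw [hconj]; exact (fQ ⟨_, hxm⟩).2
  · exact ⟨⟨_, hxm⟩, Subtype.ext hconj.symm⟩
  · rw [hconj] at h
    have h1 : π ((⟨z, hzC⟩ : C)⁻¹ * ⟨xe e, hxm.2⟩) = 1 := by
      rw [map_mul, map_inv, show π ⟨xe e, hxm.2⟩ = zb from h, inv_mul_cancel]
    exact hxz (inv_mul_eq_one.1 (Q_zpowers T X (mul_mem (inv_mem S.pack.mem) hxQ) ((hπ1 _).1 h1))).symm
  · constructor
    · rintro ⟨q, rfl⟩
      exact ⟨q, q.2, rfl⟩
    · rintro ⟨q, hq, hv⟩
      exact ⟨⟨q, hq⟩, Subtype.ext hv⟩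

/-- The quotient by the element of order three has the hypothesis of a group of Suzuki type. -/
theorem suz_hyp [((zpowers x).subgroupOf (centralizer ({x} : Set G))).Normal] :
    SuzHyp (↥(centralizer ({x} : Set G)) ⧸ (zpowers x).subgroupOf (centralizer ({x} : Set G))) := by
  obtain ⟨h2, Qb, hn, hF, hQ, hc, he, hnwc, -⟩ :=
    suz_data T X (mem_centralizer_singleton_iff.2 X.lev.1.1.symm) _ rfl
  exact ⟨_, h2, Qb, hn, hF, hQ, hc, he, hnwc⟩

end CfsgLib.InvChar.SuzCo
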