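import Cfsg.Agent.Lib.InvChar.SuzCo.Second
import Cfsg.Agent.Lib.InvChar.SuzCo.Quot
import Cfsg.Agent.Lib.InvChar.SuzY.Main
import Mathlib.FieldTheory.Finite.GaloisField

/-!
# The rotation lies in the derived group of its centraliser
-/

set_option autoImplicit false
set_option linter.unusedSectionVars false
set_option maxRecDepth 10000

namespace CfsgLib.InvChar.SuzCo

open Subgroup CfsgLib.Trans3.ExtraTwo CfsgLib.ClassK.Conway
open scoped commutatorElement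

/-- The vectors of the second plane. -/
def plane4 (i : Fin 4) : Sp 4 := ![0, up pc, up pd, up pc + up pd] i

theorem plane4_facts : (∀ v : Sp 4, ∃ i, v + R' v = plane4 i) ∧
    (∀ v : Sp 4, ∃ i, v + R' (R' v) = plane4 i) ∧ (∀ i j, ∃ k, plane4 i + plane4 j = plane4 k) ∧
    R (up pc) = up pc ∧ R (up pd) = up pd ∧ alt (up pc + R' (up pc)) (up pd + R' (up pd)) = 1 ∧
    (∀ i, plane4 i = 0 ∨ plane4 i = up pc + R' (up pc) ∨ plane4 i = up pd + R' (up pd) ∨
      plane4 i = (up pc + R' (up pc)) + (up pd + R' (up pd))) ∧ Function.Injective plane4 := by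
  decide +kernel

variable {G : Type*} [Group G] [Finite G] {z : G} {Q : Subgroup G} {e : ↥Q ≃* ES 4 (ff 4)} {ρ : G}
  (T : Tri z Q e ρ) {x : G} (X : Rot T x) {x₂ k l : G} (W : Second (z := z) (e := e) x x₂ k l)
include T X W

theorem x₂_mem : x₂ ∈ Hx T X := (mem_Hx T X).2 ⟨W.x_comm, W.z_comm⟩

theorem comm_facts : Nat.card ↥⁅Qx T X, zpowers x₂⁆ = 8 ∧
    ∃ u ∈ ⁅Qx T X, zpowers x₂⁆, ∃ v ∈ ⁅Qx T X, zpowers x₂⁆, u * v ≠ v * u := by
  classical
  have S := T.setup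
  obtain ⟨f1, f2, f3, fc, fd, fal, fspan, finj⟩ := plane4_facts
  have hx₂z : x₂ ∈ centralizer ({z} : Set G) := mem_centralizer_singleton_iff.2 W.z_comm
  have hinv : ∀ v c, (el e v c)⁻¹ = el e v (c + qd v + c + c) := fun v c => by
    refine inv_eq_of_mul_eq_one_right ?_
    rw [Setup.el_mul, sp_add_self v]
    show el e 0 (c + (c + qd v + c + c) + qd v) = 1
    rw [show c + (c + qd v + c + c) + qd v = 0 by revert c; generalize qd v = p; revert p; decide,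
      Setup.el_zero]
  let S8 : Subgroup G :=
    { carrier := {g | ∃ i c, g = el e (plane4 i) c}
      mul_mem' := by
        rintro _ _ ⟨i, c, rfl⟩ ⟨j, d, rfl⟩
        obtain ⟨m, hm⟩ := f3 i j
        exact ⟨m, _, by rw [Setup.el_mul, hm]⟩
      one_mem' := ⟨0, 0, by rw [show plane4 0 = 0 from rfl, Setup.el_zero]⟩
      inv_mem' := by
        rintro _ ⟨i, c, rfl⟩
        exact ⟨i, _, hinv _ _⟩ }
  have hle : ⁅Qx T X, zpowers x₂⁆ ≤ S8 := by
    rw [commutator_le]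
    intro q hq g hg
    obtain ⟨w, c, rfl⟩ := (mem_Qx T X).1 hq
    rcases SuzY.mem_zpowers_three W.three hg with h | h | h <;> subst g
    · rw [commutatorElement_one_right]; exact one_mem _
    · obtain ⟨c', hc'⟩ := S.conj_el hx₂z (J w) (c + qd (J w) + c + c)
      obtain ⟨i, hi⟩ := f1 (J w)
      rw [W.act_eq] at hc'
      refine ⟨i, c + c' + beta (ff 4) (J w) (R' (J w)), ?_⟩
      rw [commutatorElement_def, show ∀ q : G, q * x₂ * q⁻¹ * x₂⁻¹ = q * (x₂ * q⁻¹ * x₂⁻¹) from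
        fun q => by group, hinv, hc', Setup.el_mul, hi]
    · obtain ⟨c', hc'⟩ := S.conj_el (mul_mem hx₂z hx₂z) (J w) (c + qd (J w) + c + c)
      obtain ⟨i, hi⟩ := f2 (J w)
      rw [S.act_mul hx₂z hx₂z, W.act_eq, W.act_eq] at hc'
      refine ⟨i, c + c' + beta (ff 4) (J w) (R' (R' (J w))), ?_⟩
      rw [commutatorElement_def, show ∀ q r : G, q * r * q⁻¹ * r⁻¹ = q * (r * q⁻¹ * r⁻¹) from
        fun q r => by group, hinv, hc', Setup.el_mul, hi]
  have hgen : ∀ p : Sp 4, R p = p → ∃ c, el e (p + R' p) c ∈ ⁅Qx T X, zpowers x₂⁆ := by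
    intro p hp
    have hmem : el e p 0 ∈ Qx T X :=
      ⟨Setup.el_mem _ _, mem_centralizer_singleton_iff.2 ((comm_iff_fixed T X p 0).2 hp)⟩
    obtain ⟨c', hc'⟩ := S.conj_el hx₂z p (0 + qd p + 0 + 0)
    rw [W.act_eq] at hc'
    refine ⟨0 + c' + beta (ff 4) p (R' p), ?_⟩
    rw [← Setup.el_mul, ← hc', ← hinv, show el e p 0 * (x₂ * (el e p 0)⁻¹ * x₂⁻¹) = ⁅el e p 0, x₂⁆ by
      rw [commutatorElement_def]; group]
    exact commutator_mem_commutator hmem (mem_zpowers _)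
  obtain ⟨c1, h1⟩ := hgen _ fc
  obtain ⟨c2, h2⟩ := hgen _ fd
  have hnc : el e (up pc + R' (up pc)) c1 * el e (up pd + R' (up pd)) c2 ≠
      el e (up pd + R' (up pd)) c2 * el e (up pc + R' (up pc)) c1 := fun h => by
    have := S.el_comm (up pc + R' (up pc)) (up pd + R' (up pd)) c1 c2
    rw [fal, S.el_one, ← h] at this
    exact S.pack.z_ne (mul_eq_right.1 this.symm)
  refine ⟨?_, _, h1, _, h2, hnc⟩
  have hz : z ∈ ⁅Qx T X, zpowers x₂⁆ := by
    have h := mul_mem (mul_mem h1 h2) (mul_mem (inv_mem h1) (inv_mem h2))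
    rw [← mul_assoc, S.el_comm _ _ c1 c2, fal, S.el_one] at h
    simpa [mul_assoc] using h
  have hall : ∀ {v c}, el e v c ∈ ⁅Qx T X, zpowers x₂⁆ → ∀ d, el e v d ∈ ⁅Qx T X, zpowers x₂⁆ := by
    intro v c hc d
    rcases eq_or_ne d c with rfl | hne
    · exact hc
    · rw [(by decide : ∀ d c : ZMod 2, d ≠ c → d = c + 1) d c hne, S.el_add_one]
      exact mul_mem hc hz
  have hge : S8 ≤ ⁅Qx T X, zpowers x₂⁆ := by
    rintro _ ⟨i, c, rfl⟩
    have h0 : el e (0 : Sp 4) 0 ∈ ⁅Qx T X, zpowers x₂⁆ := by rw [Setup.el_zero]; exact one_mem _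
    rcases fspan i with h | h | h | h <;> rw [h]
    · exact hall h0 c
    · exact hall h1 c
    · exact hall h2 c
    · have h3 := mul_mem h1 h2
      rw [Setup.el_mul] at h3
      exact hall h3 c
  rw [le_antisymm hle hge]
  let F : Fin 4 × ZMod 2 → S8 := fun p => ⟨el e (plane4 p.1) p.2, p.1, p.2, rfl⟩
  have hF : Function.Bijective F := by
    refine ⟨fun p q h => ?_, fun g => ?_⟩
    · obtain ⟨h1, h2⟩ := Setup.el_inj (e := e) (congrArg Subtype.val h :)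
      exact Prod.ext (finj h1) h2
    · obtain ⟨i, c, hg⟩ := g.2
      exact ⟨(i, c), Subtype.ext hg.symm⟩
  rw [← Nat.card_congr (Equiv.ofBijective F hF)]
  simp [Nat.card_eq_fintype_card]

theorem x_mem_derived : x ∈ ⁅centralizer ({x} : Set G), centralizer ({x} : Set G)⁆ := by
  classical
  set C := centralizer ({x} : Set G) with hC
  have hcenN : ∀ c : C, (c : G) ∈ zpowers x → ∀ d : C, c * d = d * c := by
    rintro c ⟨i, hi⟩ d
    refine Subtype.ext ?_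
    show (c : G) * d = d * c
    rw [← hi]
    exact ((show Commute x (d : G) from (mem_centralizer_singleton_iff.1 d.2).symm).zpow_left i).eq
  haveI hN : ((zpowers x).subgroupOf C).Normal := ⟨fun n hn c => by
    rw [← hcenN n hn c, mul_inv_cancel_right]; exact hn⟩
  set N := (zpowers x).subgroupOf C with hNdef
  set π := QuotientGroup.mk' N with hπ
  have hzC : z ∈ C := mem_centralizer_singleton_iff.2 X.lev.1.1.symm
  obtain ⟨zb, hzb⟩ : ∃ zb, zb = π ⟨z, hzC⟩ := ⟨_, rfl⟩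
  obtain ⟨hzb2, Qb, hQn, hF, hQ, hQc, ⟨eQ⟩, hnwc, hQb⟩ := suz_data T X hzC zb hzb
  let Cs := centralizer ({zb} : Set (C ⧸ N))
  let p : Hx T X →* Cs := (π.comp (inclusion inf_le_left)).codRestrict Cs fun h =>
    mem_centralizer_singleton_iff.2 (by
      show π (inclusion inf_le_left h) * zb = zb * π (inclusion inf_le_left h)
      rw [hzb, ← map_mul, ← map_mul]
      exact congrArg π (Subtype.ext ((mem_Hx T X).1 h.2).2))
  have hx₂H := x₂_mem T X W
  have hx₂C : x₂ ∈ C := hx₂H.1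
  obtain ⟨A, hA⟩ : ∃ A, A = (Qx T X).subgroupOf (Hx T X) := ⟨_, rfl⟩
  obtain ⟨B₂, hB₂⟩ : ∃ B, B = zpowers (⟨x₂, hx₂H⟩ : Hx T X) := ⟨_, rfl⟩
  have hQmap : A.map p = Qb := by
    ext v
    rw [hQb, hA]
    constructor
    · rintro ⟨h, hh, rfl⟩
      exact ⟨h, mem_subgroupOf.1 hh, rfl⟩
    · rintro ⟨q, hq, hv⟩
      exact ⟨⟨q, Qx_le T X hq⟩, mem_subgroupOf.2 hq, Subtype.ext hv⟩
  obtain ⟨Y, hYdef⟩ : ∃ Y, Y = B₂.map p := ⟨_, rfl⟩
  have hYz : Y = zpowers (p ⟨x₂, hx₂H⟩) := by rw [hYdef, hB₂, MonoidHom.map_zpowers]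
  haveI : Fact (Nat.Prime 3) := ⟨Nat.prime_three⟩
  have hyb3 : (p ⟨x₂, hx₂H⟩) ^ 3 = 1 := by
    rw [← map_pow, show (⟨x₂, hx₂H⟩ : Hx T X) ^ 3 = 1 from Subtype.ext (by
      rw [SubgroupClass.coe_pow, pow_succ, pow_two]; exact W.three), map_one]
  have hyb1 : p ⟨x₂, hx₂H⟩ ≠ 1 := fun h => W.not_mem (by
    have := (QuotientGroup.eq_one_iff (⟨x₂, hx₂C⟩ : C)).1 (congrArg Subtype.val h)
    exact this)
  have hY3 : Nat.card Y = 3 := by rw [hYz, Nat.card_zpowers, orderOf_eq_prime hyb3 hyb1]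
  -- the commutator group
  have hcomm : ⁅Qb, Y⁆ = ⁅A, B₂⁆.map p := by rw [map_commutator, hQmap, hYdef]
  have hsub : ⁅A, B₂⁆.map (Hx T X).subtype = ⁅Qx T X, zpowers x₂⁆ := by
    rw [map_commutator, hA, hB₂, MonoidHom.map_zpowers, map_subgroupOf_eq_of_le (Qx_le T X)]
    rfl
  have hAQ : ∀ g ∈ ⁅A, B₂⁆, (g : G) ∈ Qx T X := by
    intro g hg
    have h1 : (g : G) ∈ ⁅Qx T X, zpowers x₂⁆ := hsub ▸ mem_map_of_mem (Hx T X).subtype hg
    refine (commutator_le.2 ?_) h1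
    intro q hq r hr
    have hr' : r ∈ Hx T X := zpowers_le.2 hx₂H hr
    rw [commutatorElement_def, show q * r * q⁻¹ * r⁻¹ = q * (r * q⁻¹ * r⁻¹) by group]
    refine mul_mem hq (mem_inf.2 ⟨T.setup.conj_mem (Hx_le_z T X hr') (inv_mem hq.1), ?_⟩)
    exact mul_mem (mul_mem hr'.1 (inv_mem hq.2)) (inv_mem hr'.1)
  have hinj : ∀ g ∈ ⁅A, B₂⁆, p g = 1 → g = 1 := fun g hg h =>
    Subtype.ext (Q_zpowers T X (hAQ g hg).1 ((QuotientGroup.eq_one_iff _).1 (congrArg Subtype.val h) :))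
  obtain ⟨hc8, u, hu, v, hv, huv⟩ := comm_facts T X W
  rw [← hsub] at hc8 hu hv
  rw [card_map_of_injective (Hx T X).subtype_injective] at hc8
  obtain ⟨u', hu', rfl⟩ := hu
  obtain ⟨v', hv', rfl⟩ := hv
  have hQY : Nat.card ↥⁅Qb, Y⁆ = 8 := by
    rw [hcomm, ← hc8]
    refine (Nat.card_eq_of_bijective (p.subgroupMap ⁅A, B₂⁆) ⟨?_, MonoidHom.subgroupMap_surjective _ _⟩).symm
    refine (injective_iff_map_eq_one _).2 fun g hg => Subtype.ext (hinj g g.2 ?_)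
    exact congrArg Subtype.val hg
  have hQYna : ¬ IsMulCommutative ↥⁅Qb, Y⁆ := fun h => huv (by
    have hm : ∀ g ∈ ⁅A, B₂⁆, p g ∈ ⁅Qb, Y⁆ := fun g hg => hcomm.symm ▸ mem_map_of_mem p hg
    have h1 := congrArg Subtype.val (h.is_comm.comm ⟨_, hm u' hu'⟩ ⟨_, hm v' hv'⟩)
    change p u' * p v' = p v' * p u' at h1
    have h2 : u' * v' * (v' * u')⁻¹ = 1 := hinj _
      (mul_mem (mul_mem hu' hv') (inv_mem (mul_mem hv' hu')))
      (by rw [map_mul, map_inv, map_mul, map_mul, h1, mul_inv_cancel])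
    exact congrArg Subtype.val (mul_inv_eq_one.1 h2))
  -- the centraliser of the image is quasisimple
  obtain ⟨yb, hyb⟩ : ∃ yb, yb = π ⟨x₂, hx₂C⟩ := ⟨_, rfl⟩
  obtain ⟨C', hC'⟩ : ∃ C', C' = centralizer ({yb} : Set (C ⧸ N)) := ⟨_, rfl⟩
  have hmapY : Y.map Cs.subtype = zpowers yb := by
    rw [hYz, MonoidHom.map_zpowers, hyb]; rfl
  haveI : ((zpowers yb).subgroupOf C').Normal := ⟨fun n hn c => by
    have hn' : (n : C ⧸ N) ∈ zpowers yb := hn
    obtain ⟨i, hi⟩ := hn'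
    have hc : Commute (c : C ⧸ N) yb := mem_centralizer_singleton_iff.1 (hC' ▸ c.2)
    show (c : C ⧸ N) * n * (c : C ⧸ N)⁻¹ ∈ zpowers yb
    rw [← hi, (hc.zpow_right i).eq, mul_inv_cancel_right]
    exact ⟨i, rfl⟩⟩
  let K : Type := GaloisField 3 2
  haveI : Fintype K := Fintype.ofFinite K
  have hK : Fintype.card K = 9 := by
    rw [← Nat.card_eq_fintype_card]; exact (GaloisField.card 3 2 two_ne_zero).trans (by norm_num)
  haveI := hQn
  obtain ⟨hqs, -, -⟩ := SuzY.main zb hzb2 Qb hF hQ hQc eQ hnwc Y hY3 hQY hQYna (zpowers yb) C' hmapY.symm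
    (by rw [hC', zpowers_eq_closure, centralizer_closure]) K hK
  -- pull back
  obtain ⟨P, hP⟩ : ∃ P, P = C'.comap π := ⟨_, rfl⟩
  have hπs := QuotientGroup.mk'_surjective N
  have hPmap : P.map π = C' := by rw [hP]; exact map_comap_eq_self_of_surjective hπs C'
  have hC'perf : C' = (⁅P, P⁆).map π := by
    rw [map_commutator, hPmap]
    have h := congrArg (fun H : Subgroup C' => H.map C'.subtype) hqs.1.commutator_eq_top
    simp only [_root_.commutator_def, map_commutator, ← MonoidHom.range_eq_map, range_subtype] at h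
    exact h.symm
  have hPdec : ∀ g ∈ P, ∃ w ∈ ⁅P, P⁆, ∃ n : C, (n : G) ∈ zpowers x ∧ g = w * n := by
    intro g hg
    have h1 : π g ∈ C' := by rw [hP] at hg; exact hg
    rw [hC'perf] at h1
    obtain ⟨w, hw, hwg⟩ := h1
    exact ⟨w, hw, w⁻¹ * g, (QuotientGroup.eq_one_iff (N := N) _).1 (by
      show π (w⁻¹ * g) = 1
      rw [map_mul, map_inv, hwg, inv_mul_cancel]), by group⟩
  set x2C : C := ⟨x₂, hx₂C⟩ with hx2C
  have hder : ⁅P, P⁆ ≤ centralizer ({x2C} : Set C) := by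
    have hn : ∀ a ∈ P, ∃ n : C, (n : G) ∈ zpowers x ∧ a * x2C * a⁻¹ = n * x2C := by
      intro a ha
      refine ⟨a * x2C * a⁻¹ * x2C⁻¹, (QuotientGroup.eq_one_iff (N := N) (a * x2C * a⁻¹ * x2C⁻¹)).1 ?_, by group⟩
      show π (a * x2C * a⁻¹ * x2C⁻¹) = 1
      rw [hP, hC'] at ha
      have h : π a * yb = yb * π a := mem_centralizer_singleton_iff.1 ha
      rw [hyb] at h
      rw [map_mul, map_mul, map_mul, map_inv, map_inv, h, mul_inv_cancel_right, mul_inv_cancel]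
    rw [commutator_le]
    intro a ha b hb
    refine mem_centralizer_singleton_iff.2 (mul_inv_eq_iff_eq_mul.1 ?_)
    obtain ⟨na, hna, ea⟩ := hn a ha
    obtain ⟨nb, hnb, eb⟩ := hn b hb
    have ca := hcenN na hna
    have cb := hcenN nb hnb
    have eai : a⁻¹ * x2C * a = na⁻¹ * x2C := by
      have : x2C = a⁻¹ * (na * x2C) * a := by rw [← ea]; group
      calc a⁻¹ * x2C * a = na⁻¹ * ((na * a⁻¹) * x2C * a) := by group
        _ = na⁻¹ * (a⁻¹ * (na * x2C) * a) := by rw [ca a⁻¹]; group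
        _ = na⁻¹ * x2C := by rw [← this]
    have ebi : b⁻¹ * x2C * b = nb⁻¹ * x2C := by
      have : x2C = b⁻¹ * (nb * x2C) * b := by rw [← eb]; group
      calc b⁻¹ * x2C * b = nb⁻¹ * ((nb * b⁻¹) * x2C * b) := by group
        _ = nb⁻¹ * (b⁻¹ * (nb * x2C) * b) := by rw [cb b⁻¹]; group
        _ = nb⁻¹ * x2C := by rw [← this]
    have cai : ∀ d : C, na⁻¹ * d = d * na⁻¹ := fun d => ((show Commute na d from ca d).inv_left).eq
    have cbi : ∀ d : C, nb⁻¹ * d = d * nb⁻¹ := fun d => ((show Commute nb d from cb d).inv_left).eq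
    rw [commutatorElement_def]
    calc a * b * a⁻¹ * b⁻¹ * x2C * (a * b * a⁻¹ * b⁻¹)⁻¹
        = a * b * (a⁻¹ * (b⁻¹ * x2C * b) * a) * b⁻¹ * a⁻¹ := by group
      _ = a * b * (a⁻¹ * (nb⁻¹ * x2C) * a) * b⁻¹ * a⁻¹ := by rw [ebi]
      _ = nb⁻¹ * (a * (b * (a⁻¹ * x2C * a) * b⁻¹) * a⁻¹) := by
        rw [← mul_assoc a⁻¹ nb⁻¹, ← cbi a⁻¹]
        simp only [mul_assoc]
        rw [← mul_assoc b nb⁻¹, ← cbi b, mul_assoc, ← mul_assoc a nb⁻¹, ← cbi a, mul_assoc]
      _ = nb⁻¹ * (a * (b * (na⁻¹ * x2C) * b⁻¹) * a⁻¹) := by rw [eai]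
      _ = nb⁻¹ * (na⁻¹ * (a * (b * x2C * b⁻¹) * a⁻¹)) := by
        rw [← mul_assoc b na⁻¹, ← cai b]
        simp only [mul_assoc]
        rw [← mul_assoc a na⁻¹, ← cai a, mul_assoc]
      _ = nb⁻¹ * (na⁻¹ * (nb * (a * x2C * a⁻¹))) := by
        rw [eb, ← mul_assoc a nb, ← cb a]
        simp only [mul_assoc]
      _ = nb⁻¹ * (nb * (na⁻¹ * (na * x2C))) := by rw [ea, ← mul_assoc na⁻¹ nb, cai nb, mul_assoc]
      _ = x2C := by group
  have hPB : P ≤ centralizer ({x2C} : Set C) := by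
    intro g hg
    obtain ⟨w, hw, n, hn, rfl⟩ := hPdec g hg
    exact mul_mem (hder hw) (mem_centralizer_singleton_iff.2 (hcenN n hn x2C))
  obtain ⟨B, hB⟩ : ∃ B, B = centralizer ({x2C} : Set C) := ⟨_, rfl⟩
  rw [← hB] at hPB
  have hx2P : x2C ∈ P := by
    rw [hP, hC', hyb]
    exact mem_centralizer_singleton_iff.2 rfl
  obtain ⟨w, hw, n, hn, hwn⟩ := hPdec x2C hx2P
  have hwB : w ∈ ⁅B, B⁆ := commutator_mono hPB hPB hw
  have hkC : k ∈ C := mem_centralizer_singleton_iff.2 W.k_comm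
  set kC : C := ⟨k, hkC⟩ with hkdef
  have hkx : kC * x2C * kC⁻¹ = x2C * x2C := Subtype.ext W.k_inv
  have hBk : B.map (MulAut.conj kC).toMonoidHom ≤ B := by
    rw [hB]
    rintro _ ⟨g, hg, rfl⟩
    refine mem_centralizer_singleton_iff.2 ?_
    have hg' : Commute g x2C := mem_centralizer_singleton_iff.1 hg
    show kC * g * kC⁻¹ * x2C = x2C * (kC * g * kC⁻¹)
    have h4 : (x2C * x2C) * (x2C * x2C) = x2C := Subtype.ext (by
      show x₂ * x₂ * (x₂ * x₂) = x₂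
      rw [show x₂ * x₂ * (x₂ * x₂) = x₂ * x₂ * x₂ * x₂ by group, W.three, one_mul])
    have e : x2C = kC * (x2C * x2C) * kC⁻¹ := by
      calc x2C = (kC * x2C * kC⁻¹) * (kC * x2C * kC⁻¹) := by rw [hkx, h4]
        _ = _ := by group
    calc kC * g * kC⁻¹ * x2C = kC * g * kC⁻¹ * (kC * (x2C * x2C) * kC⁻¹) := by rw [← e]
      _ = kC * (g * (x2C * x2C)) * kC⁻¹ := by group
      _ = kC * ((x2C * x2C) * g) * kC⁻¹ := by rw [(hg'.mul_right hg').eq]
      _ = (kC * (x2C * x2C) * kC⁻¹) * (kC * g * kC⁻¹) := by group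
      _ = _ := by rw [← e]
  have hkw : kC * w * kC⁻¹ ∈ ⁅B, B⁆ := by
    have : (MulAut.conj kC).toMonoidHom w ∈ (⁅B, B⁆).map (MulAut.conj kC).toMonoidHom := mem_map_of_mem _ hwB
    rw [map_commutator] at this
    exact commutator_mono hBk hBk this
  have hx2B : x2C ∈ ⁅B, B⁆ := by
    have cn := hcenN n hn
    have e1 : x2C * x2C = kC * w * kC⁻¹ * n := by
      calc x2C * x2C = kC * (w * n) * kC⁻¹ := by rw [← hwn, hkx]
        _ = kC * w * (n * kC⁻¹) := by group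
        _ = _ := by rw [cn]; group
    have e2 : x2C = kC * w * kC⁻¹ * w⁻¹ := by
      calc x2C = x2C * x2C * x2C⁻¹ := by group
        _ = kC * w * kC⁻¹ * (n * n⁻¹) * w⁻¹ := by rw [e1, hwn]; group
        _ = _ := by group
    rw [e2]
    exact mul_mem hkw (inv_mem hwB)
  -- conjugate to `x`
  have h1 : x₂ ∈ ⁅centralizer ({x₂} : Set G), centralizer ({x₂} : Set G)⁆ := by
    have hle : B.map C.subtype ≤ centralizer ({x₂} : Set G) := by
      rw [hB]
      rintro _ ⟨g, hg, rfl⟩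
      exact mem_centralizer_singleton_iff.2 (congrArg Subtype.val (mem_centralizer_singleton_iff.1 hg))
    have h := mem_map_of_mem C.subtype hx2B
    rw [map_commutator] at h
    exact commutator_mono hle hle h
  have hle : (centralizer ({x₂} : Set G)).map (MulAut.conj l⁻¹).toMonoidHom ≤ C := by
    rintro _ ⟨g, hg, rfl⟩
    refine mem_centralizer_singleton_iff.2 ?_
    have hg' : g * x₂ = x₂ * g := mem_centralizer_singleton_iff.1 hg
    show l⁻¹ * g * l⁻¹⁻¹ * x = x * (l⁻¹ * g * l⁻¹⁻¹)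
    calc l⁻¹ * g * l⁻¹⁻¹ * x = l⁻¹ * (g * (l * x * l⁻¹)) * l := by group
      _ = l⁻¹ * (x₂ * g) * l := by rw [W.l_conj, hg']
      _ = l⁻¹ * ((l * x * l⁻¹) * g) * l := by rw [W.l_conj]
      _ = _ := by group
  have h2 := mem_map_of_mem (MulAut.conj l⁻¹).toMonoidHom h1
  rw [map_commutator] at h2
  have h3 := commutator_mono hle hle h2
  have e : (MulAut.conj l⁻¹).toMonoidHom x₂ = x := by
    show l⁻¹ * x₂ * l⁻¹⁻¹ = x
    rw [← W.l_conj]; group
  rwa [e] at h3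

end CfsgLib.InvChar.SuzCo
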