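import Cfsg.Agent.Lib.InvChar.SuzCo.Space
import Cfsg.Agent.Lib.Trans3.LargeCoprime
import Cfsg.Agent.Lib.Trans3.ConwayAct

/-!
# An element of order three of the complement and the centraliser of it in `C(z)`
-/

set_option autoImplicit false
set_option linter.unusedSectionVars false

namespace CfsgLib.InvChar.SuzCo

open Subgroup CfsgLib.Trans3.ExtraTwo CfsgLib.ClassK.Conway

variable {G : Type*} [Group G] [Finite G] {z : G} {Q : Subgroup G} {e : ↥Q ≃* ES 4 (ff 4)} {ρ : G}

/-- The element of order three. -/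
structure Rot (T : Tri z Q e ρ) (x : G) : Prop where
  lev : Lev z e ρ x
  sig_eq : ∀ v, sig e x v = refl ea (refl eb v)

variable (T : Tri z Q e ρ)
include T

theorem exists_rot : ∃ x, Rot T x := by
  obtain ⟨l, hl, h⟩ := T.exists_pair plane_facts.1 plane_facts.2.1
  exact ⟨l, hl, h⟩

variable {x : G} (X : Rot T x)
include X

theorem x_mem : x ∈ centralizer ({z} : Set G) := Tri.memH X.lev.1

theorem sig_sq (v : Sp 3) : sig e (x * x) v = refl ea (refl eb (refl ea (refl eb v))) := by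
  rw [T.sig_mul X.lev.1 X.lev.1, X.sig_eq, X.sig_eq]

theorem x_three : x * x * x = 1 := by
  refine T.lev_trivial ((X.lev.mul X.lev).mul X.lev) fun v => ?_
  rw [T.sig_mul (X.lev.1.mul X.lev.1) X.lev.1, sig_sq T X, X.sig_eq]
  exact plane_facts.2.2.2.2.1 v

theorem x_ne : x ≠ 1 := fun h => by
  obtain ⟨v, hv⟩ := plane_facts.2.2.2.2.2.1
  refine hv ?_
  rw [← X.sig_eq, h, ← T.nm_one, T.sig_nm]

theorem order_x : orderOf x = 3 :=
  haveI : Fact (Nat.Prime 3) := ⟨Nat.prime_three⟩
  orderOf_eq_prime (by rw [pow_succ, pow_two]; exact x_three T X) (x_ne T X)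

theorem act_x (v : Sp 4) : act e x v = R v := by
  have hi := T.setup.act_isom (x_mem T X)
  obtain ⟨s, t, b, rfl, -, -⟩ := decomp v
  rw [hi.map_add, hi.map_add, R_isom.map_add, R_isom.map_add, map_smul' hi, map_smul' hi,
    map_smul' R_isom, map_smul' R_isom, T.act_e0 X.lev.1, (T.lev_act X.lev).1, (T.lev_act X.lev).2,
    X.sig_eq, plane_facts.2.2.2.2.2.2.1]
  rw [R, R, (refl_up_fix eb).2, (refl_up_fix ea).2, refl_up, refl_up]

theorem act_pow (i : ℕ) : (∀ v, act e (x ^ i) v = R^[i] v) := by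
  induction i with
  | zero => intro v; rw [pow_zero]; exact T.setup.act_one v
  | succ i ih =>
    intro v
    rw [pow_succ', T.setup.act_mul (x_mem T X) (pow_mem (x_mem T X) i), act_x T X, ih,
      Function.iterate_succ_apply']

/-- The members of `Q` centralising `x` are those over the fixed space. -/
theorem comm_iff_fixed (v : Sp 4) (k : ZMod 2) : el e v k * x = x * el e v k ↔ R v = v := by
  constructor
  · intro h
    rw [← act_x T X]
    exact T.setup.act_eq (x_mem T X) (k := k) (k' := k) (mul_inv_eq_iff_eq_mul.2 h.symm)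
  · intro h
    obtain ⟨k', hk'⟩ := T.setup.conj_el (x_mem T X) v k
    rw [act_x T X, h] at hk'
    refine (mul_inv_eq_iff_eq_mul.1 ?_).symm
    by_contra hne
    have hk : k' = k + 1 := by
      rcases z2_cases k with rfl | rfl <;> rcases z2_cases k' with rfl | rfl
      · exact absurd hk' hne
      · rfl
      · rfl
      · exact absurd hk' hne
    rw [hk, T.setup.el_add_one] at hk'
    set q := el e v k
    have hxz : x * z * x⁻¹ = z := by rw [X.lev.1.1, mul_inv_cancel_right]
    have h2 : x * x * q * (x * x)⁻¹ = q * z * z := by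
      rw [show x * x * q * (x * x)⁻¹ = x * (x * q * x⁻¹) * x⁻¹ by group, hk',
        show x * (q * z) * x⁻¹ = x * q * x⁻¹ * (x * z * x⁻¹) by group, hk', hxz]
    have h3 : q = q * z * z * z := by
      conv_lhs => rw [show q = x * x * x * q * (x * x * x)⁻¹ by rw [x_three T X]; group]
      rw [show x * x * x * q * (x * x * x)⁻¹ = x * (x * x * q * (x * x)⁻¹) * x⁻¹ by group, h2,
        show x * (q * z * z) * x⁻¹ = x * q * x⁻¹ * (x * z * x⁻¹) * (x * z * x⁻¹) by group, hk', hxz]
    have hz2 := T.setup.pack.z_mul_z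
    rw [mul_assoc (q * z), hz2, mul_one] at h3
    exact T.setup.pack.z_ne (mul_eq_left.1 h3.symm)

/-- The fixed part of `Q`. -/
def Qx (_ : Rot T x) : Subgroup G := Q ⊓ centralizer ({x} : Set G)

theorem mem_Qx {g : G} : g ∈ Qx T X ↔ ∃ w k, g = el e (J w) k := by
  show g ∈ Q ∧ g ∈ centralizer ({x} : Set G) ↔ _
  rw [mem_centralizer_singleton_iff]
  constructor
  · rintro ⟨hg, hgx⟩
    obtain ⟨v, k, rfl⟩ := Setup.exists_el (e := e) hg
    exact ⟨Ji v, k, by rw [(fixed_iff v).1 ((comm_iff_fixed T X v k).1 hgx)]⟩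
  · rintro ⟨w, k, rfl⟩
    exact ⟨Setup.el_mem _ _, (comm_iff_fixed T X _ k).2 (R_J w)⟩

theorem z_mem_Qx : z ∈ Qx T X :=
  (mem_Qx T X).2 ⟨0, 1, by rw [plane_facts.2.2.2.2.2.2.2, T.setup.el_one]⟩

theorem card_Qx : Nat.card (Qx T X) = 128 := by
  let F : (Amalgam.SixMinus.I6 → ZMod 2) × ZMod 2 → Qx T X := fun p =>
    ⟨el e (J p.1) p.2, (mem_Qx T X).2 ⟨p.1, p.2, rfl⟩⟩
  have hF : Function.Bijective F := by
    refine ⟨fun p p' h => ?_, fun g => ?_⟩
    · obtain ⟨h1, h2⟩ := Setup.el_inj (e := e) (congrArg Subtype.val h :)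
      exact Prod.ext (by rw [← Ji_J p.1, h1, Ji_J]) h2
    · obtain ⟨w, k, hg⟩ := (mem_Qx T X).1 g.2
      exact ⟨(w, k), Subtype.ext hg.symm⟩
  rw [← Nat.card_congr (Equiv.ofBijective F hF)]
  simp [Nat.card_eq_fintype_card]

theorem extraspecial_Qx : Cfsg.IsExtraspecial 2 (Qx T X) := by
  refine Trans3.LargeSymm.extraspecial_sub T.setup.pack.ext T.setup.pack.ord T.setup.pack.cen inf_le_left
    (z_mem_Qx T X) (fun a ha hcom => ?_) fun h => ?_
  · obtain ⟨w, k, rfl⟩ := (mem_Qx T X).1 ha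
    by_cases hw : w = 0
    · subst hw
      rw [plane_facts.2.2.2.2.2.2.2]
      rcases z2_cases k with rfl | rfl
      · rw [Setup.el_zero]; exact one_mem _
      · rw [T.setup.el_one]; exact mem_zpowers z
    · exfalso
      obtain ⟨w', hw'⟩ := nondeg w hw
      have h := hcom _ ((mem_Qx T X).2 ⟨w', 0, rfl⟩)
      rw [T.setup.el_comm (J w) (J w'), hw', T.setup.el_one] at h
      exact T.setup.pack.z_ne (mul_eq_right.1 h.symm)
  · have := card_Qx T X
    rw [h, Nat.card_zpowers, T.setup.pack.ord] at this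
    omega

/-- `C(z, x)`. -/
def Hx (_ : Rot T x) : Subgroup G := centralizer ({x} : Set G) ⊓ centralizer ({z} : Set G)

theorem mem_Hx {h : G} : h ∈ Hx T X ↔ h * x = x * h ∧ h * z = z * h := by
  show h ∈ centralizer ({x} : Set G) ∧ h ∈ centralizer ({z} : Set G) ↔ _
  rw [mem_centralizer_singleton_iff, mem_centralizer_singleton_iff]

theorem Hx_le_z {h : G} (hh : h ∈ Hx T X) : h ∈ centralizer ({z} : Set G) := hh.2

theorem Qx_le : Qx T X ≤ Hx T X := fun g hg =>
  (mem_Hx T X).2 ⟨mem_centralizer_singleton_iff.1 hg.2, T.setup.pack.comm_z hg.1⟩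

theorem act_comm {h : G} (hh : h ∈ Hx T X) (v : Sp 4) : act e h (R v) = R (act e h v) := by
  obtain ⟨hx, hz⟩ := (mem_Hx T X).1 hh
  have hc := mem_centralizer_singleton_iff.2 hz
  rw [← act_x T X, ← act_x T X, ← T.setup.act_mul hc (x_mem T X), hx, T.setup.act_mul (x_mem T X) hc]

theorem act_fixed {h : G} (hh : h ∈ Hx T X) (w : Amalgam.SixMinus.I6 → ZMod 2) :
    J (Ji (act e h (J w))) = act e h (J w) :=
  (fixed_iff _).1 (by rw [← act_comm T X hh, R_J])

/-- A coset of `Q` fixed by `x` meets `C(x)`. -/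
theorem exists_lift {c : G} (hc : c * z = z * c) (h : ∀ v, act e c (R v) = R (act e c v)) :
    ∃ d ∈ Hx T X, ∀ v, act e d v = act e c v := by
  have S := T.setup
  have hcz := mem_centralizer_singleton_iff.2 hc
  haveI : Fact (Nat.Prime 3) := ⟨Nat.prime_three⟩
  let A : Set G := {d | d * z = z * d ∧ ∀ v, act e d v = act e c v}
  have hA : ∀ d ∈ A, x * d * x⁻¹ ∈ A := by
    rintro d ⟨hd, hd'⟩
    have hdz := mem_centralizer_singleton_iff.2 hd
    have hxi := inv_mem (x_mem T X)
    refine ⟨mem_centralizer_singleton_iff.1 (mul_mem (mul_mem (x_mem T X) hdz) hxi), fun v => ?_⟩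
    rw [S.act_mul (mul_mem (x_mem T X) hdz) hxi, S.act_mul (x_mem T X) hdz, act_x T X, hd', ← h,
      ← act_x T X (act e x⁻¹ v), ← S.act_mul (x_mem T X) hxi, mul_inv_cancel, S.act_one]
  have hcard : ¬ 3 ∣ Nat.card A := by
    have he : A = (fun q => c * q) '' (Q : Set G) := by
      ext d
      constructor
      · rintro ⟨hd, hd'⟩
        have hdz := mem_centralizer_singleton_iff.2 hd
        refine ⟨c⁻¹ * d, S.mem_of_act (mul_mem (inv_mem hcz) hdz) fun v => ?_, by
          show c * (c⁻¹ * d) = d; group⟩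
        rw [S.act_mul (inv_mem hcz) hdz, hd', ← S.act_mul (inv_mem hcz) hcz, inv_mul_cancel, S.act_one]
      · rintro ⟨q, hq, rfl⟩
        have hqz : q ∈ centralizer ({z} : Set G) := S.pack.mem_centralizer_z hq
        exact ⟨mem_centralizer_singleton_iff.1 (mul_mem hcz hqz), fun v => by
          rw [S.act_mul hcz hqz, S.act_mem hq]⟩
    rw [he, Nat.card_image_of_injective (mul_right_injective c)]
    show ¬ 3 ∣ Nat.card Q
    rw [Nat.card_congr e.toEquiv, card_ES]
    norm_num
  obtain ⟨d, ⟨hd, hd'⟩, hdx⟩ := Trans3.Conway.exists_comm_in (p := 3) (k := 1) x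
    (by rw [pow_one, pow_succ, pow_two]; exact x_three T X) A hA hcard
  exact ⟨d, (mem_Hx T X).2 ⟨hdx.symm, hd⟩, hd'⟩

end CfsgLib.InvChar.SuzCo
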