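import Cfsg.Agent.Lib.InvChar.SuzType.Setup
import Cfsg.Agent.Lib.InvChar.SuzType.Pair
import Cfsg.Agent.Lib.Classical.SpSimple
import Cfsg.Agent.Lib.OddLocal.PGroup

/-!
# A group of Suzuki type is simple
-/

set_option autoImplicit false

namespace CfsgLib.InvChar.SuzCo

open Subgroup CfsgLib.InvChar.SuzType

theorem omega_minus_simple : IsSimpleGroup ↥(Cfsg.Omega (ZMod 2) Amalgam.SixMinus.Q2) := by
  haveI := CfsgLib.Classical.isSimpleGroup_psp (F := ZMod 3) 2 le_rfl (fun _ => by rw [ZMod.card])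
  obtain ⟨e⟩ := Amalgam.SixMinus.pSp_equiv_omega (ZMod 3) (ZMod.card 3)
  exact MulEquiv.isSimpleGroup e.symm

theorem vec_facts : bf (code 4) e1 = 0 ∧ (code 4).2 ≠ 0 ∧ qf e1 = 0 ∧ e1 ≠ 0 := by decide +kernel

theorem nonsing_span : ∀ x : V, x = 0 ∨ qf x = 1 ∨ ∃ a b : V, qf a = 1 ∧ qf b = 1 ∧ a + b = x := by
  decide +kernel

theorem exists_witness : ∀ x : V, qf x = 0 → x ≠ 0 → ∃ a b : V, qf a = 1 ∧ qf b = 1 ∧ bf a b = 1 ∧
    x + rf a (rf b x) = a := by
  decide +kernel

set_option synthInstance.maxSize 2000 in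
theorem exists_step : ∀ a c : V, qf a = 1 → qf c = 1 → a ≠ c → bf a c = 0 →
    ∃ b : V, qf b = 1 ∧ bf a b = 1 ∧ bf b c = 1 := by
  decide +kernel

set_option synthInstance.maxSize 2000 in
theorem rf_move : ∀ a b : V, qf a = 1 → qf b = 1 → bf a b = 1 → rf a (rf b a) = b := by
  decide +kernel

universe u

variable {G : Type u} [Group G] [Finite G] {z : G} {Q : Subgroup G} {φ : G → V}

/-- A normal subgroup of `C(z)` meeting `Q` outside the centre contains `Q`. -/
theorem Q_le_of {z u : G} {Q Q' : Subgroup G} {φ φ' : G → V} (P : Pair z u Q Q' φ φ')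
    {N : Subgroup G} (hN : ∀ h : G, h * z = z * h → ∀ n ∈ N, h * n * h⁻¹ ∈ N) (hz : z ∈ N) (hu : u ∈ N) :
    Q ≤ N := by
  -- the images of the members of `Q ∩ N`
  let W : V → Prop := fun v => ∃ q ∈ Q, q ∈ N ∧ φ q = v
  have hWadd : ∀ v w, W v → W w → W (v + w) := fun v w ⟨a, ha, ha', e1⟩ ⟨b, hb, hb', e2⟩ =>
    ⟨a * b, mul_mem ha hb, mul_mem ha' hb', by rw [P.S.hadd a ha b hb, e1, e2]⟩
  have hWmove : ∀ a b v, qf a = 1 → qf b = 1 → bf a b = 1 → W v → W (rf a (rf b v)) := by
    rintro a b _ ha hb hab ⟨q, hq, hq', rfl⟩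
    obtain ⟨h, hh, hact⟩ := P.S.hrefl a b ha hb hab
    exact ⟨_, P.S.norm hh hq, hN h hh q hq', hact q hq⟩
  have he1 : W e1 := ⟨u, P.mem, hu, P.he⟩
  obtain ⟨a, b, ha, hb, hab, e⟩ := exists_witness e1 vec_facts.2.2.1 vec_facts.2.2.2
  have hWa : W a := e ▸ hWadd _ _ he1 (hWmove a b e1 ha hb hab he1)
  have hstep : ∀ x y, qf x = 1 → qf y = 1 → bf x y = 1 → W x → W y := fun x y hx hy hxy h => by
    have := hWmove x y x hx hy hxy h
    rwa [rf_move x y hx hy hxy] at this
  have hns : ∀ c, qf c = 1 → W c := by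
    intro c hc
    by_cases hac : a = c
    · exact hac ▸ hWa
    rcases z2_cases' (bf a c) with h | h
    · obtain ⟨d, hd, h1, h2⟩ := exists_step a c ha hc hac h
      exact hstep d c hd hc h2 (hstep a d ha hd h1 hWa)
    · exact hstep a c ha hc h hWa
  have hall : ∀ v, W v := by
    intro v
    rcases nonsing_span v with rfl | h | ⟨x, y, hx, hy, rfl⟩
    · exact ⟨1, one_mem _, one_mem _, P.S.phi_one⟩
    · exact hns v h
    · exact hWadd _ _ (hns x hx) (hns y hy)
  intro q hq
  obtain ⟨q', hq', hN', e'⟩ := hall (φ q)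
  rcases P.S.phi_eq hq hq' e'.symm with rfl | rfl
  · exact hN'
  · exact mul_mem hN' hz

/-- A group of Suzuki type is a non-abelian simple group. -/
theorem simple_of_type (z : G) (hz : orderOf z = 2)
    (Q : Subgroup (centralizer ({z} : Set G))) [Q.Normal]
    (hF : Cfsg.generalizedFittingSubgroup (centralizer ({z} : Set G)) = Q)
    (hQ : Cfsg.IsExtraspecial 2 Q) (hcard : Nat.card Q = 2 ^ 7)
    (e : (centralizer ({z} : Set G)) ⧸ Q ≃* Cfsg.Omega (ZMod 2) (Cfsg.quadFormMinus 2 (ZMod 2) 1 1))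
    (hnwc : ∃ g : G, (∃ hq : g * z * g⁻¹ ∈ centralizer ({z} : Set G),
      (⟨g * z * g⁻¹, hq⟩ : centralizer ({z} : Set G)) ∈ Q) ∧ g * z * g⁻¹ ≠ z) :
    IsSimpleGroup G ∧ ¬ IsMulCommutative G := by
  classical
  obtain ⟨φ, S⟩ := exists_data z hz Q hF hQ hcard e
  obtain ⟨g, ⟨hq, hgQ⟩, hne⟩ := hnwc
  obtain ⟨ψ, ψ', P⟩ := exists_pair S (show g * z * g⁻¹ ∈ Q.map (centralizer ({z} : Set G)).subtype from
    ⟨_, hgQ, rfl⟩) hne
  have hna : ¬ IsMulCommutative G := fun h => hne (by rw [h.is_comm.comm g z, mul_inv_cancel_right])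
  haveI : Nontrivial G := ⟨z, 1, P.S.zne⟩
  haveI : Fact (Nat.Prime 2) := ⟨Nat.prime_two⟩
  refine ⟨{ eq_bot_or_eq_top_of_normal := fun N hN => ?_ }, hna⟩
  refine or_iff_not_imp_left.2 fun hN1 => ?_
  set Q' := Q.map (centralizer ({z} : Set G)).subtype with hQ'
  -- `z` lies in `N`
  have hzN : z ∈ N := by
    by_cases h2 : 2 ∣ Nat.card N
    · obtain ⟨P2, hP2⟩ := P.S.pack.ext.1.1.exists_le_sylow
      obtain ⟨x, hx⟩ := exists_prime_orderOf_dvd_card' (G := N) 2 h2
      have hxp : IsPGroup 2 (zpowers (x : G)) := IsPGroup.of_card (n := 1) (by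
        rw [Nat.card_zpowers, orderOf_coe, hx, pow_one])
      obtain ⟨P3, hP3⟩ := hxp.exists_le_sylow
      obtain ⟨k, hk⟩ := MulAction.exists_smul_eq G P3 P2
      have hkx : k * x * k⁻¹ ∈ (P2 : Subgroup G) := by
        rw [← hk, Sylow.coe_subgroup_smul]; exact ⟨x, hP3 (mem_zpowers _), rfl⟩
      have hkN : k * x * k⁻¹ ∈ N := hN.conj_mem _ x.2 k
      let M : Subgroup ↥(P2 : Subgroup G) := N.subgroupOf P2
      haveI : M.Normal := hN.subgroupOf _
      have hM : M ≠ ⊥ := fun h => by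
        have h' : (⟨_, hkx⟩ : ↥(P2 : Subgroup G)) ∈ M := hkN
        rw [h, mem_bot] at h'
        have h1 : (x : G) = 1 := conj_eq_one_iff.1 (congrArg Subtype.val h')
        rw [← orderOf_coe, h1, orderOf_one] at hx
        omega
      obtain ⟨w, hwM, hw1, hwc⟩ := OddLocal.exists_center_of_normal_ne_bot P2.isPGroup' M hM
      have hwQ : (w : G) ∈ Q' := P.S.pack.cent (mem_centralizer_iff.2 fun q hq =>
        congrArg Subtype.val (mem_center_iff.1 hwc ⟨q, hP2 hq⟩))
      rcases P.S.pack.eq_of_central hwQ (fun b hb =>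
        (congrArg Subtype.val (mem_center_iff.1 hwc ⟨b, hP2 hb⟩)).symm) with h | h
      · exact absurd (Subtype.ext h) hw1
      · exact h ▸ hwM
    · -- a normal subgroup of odd order
      exfalso
      have hodd : ∀ n ∈ N, n * n = 1 → n = 1 := fun n hn hnn => by
        by_contra hn1
        have h' : orderOf (⟨n, hn⟩ : N) = 2 :=
          orderOf_eq_prime (Subtype.ext (by rw [pow_two]; exact hnn)) fun h => hn1 (congrArg Subtype.val h)
        exact h2 (h' ▸ orderOf_dvd_natCard _)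
      -- conjugates of `z` invert `N`
      have hfix : ∀ k : G, ∀ n ∈ N, n * (k * z * k⁻¹) = k * z * k⁻¹ * n → n = 1 := by
        intro k n hn hc
        set m := k⁻¹ * n * k with hm
        have hmN : m ∈ N := by
          have := hN.conj_mem n hn k⁻¹
          rwa [inv_inv] at this
        have hmz : m * z = z * m := by
          calc m * z = k⁻¹ * (n * (k * z * k⁻¹)) * k := by rw [hm]; group
            _ = z * m := by rw [hc, hm]; group
        have hmQ : m ∈ Q' := P.S.pack.cent (mem_centralizer_iff.2 fun q hq => by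
          have hin : q * m * q⁻¹ * m⁻¹ ∈ N := mul_mem (hN.conj_mem m hmN q) (inv_mem hmN)
          have hin' : q * m * q⁻¹ * m⁻¹ ∈ Q' := by
            rw [mul_assoc q m, mul_assoc q]
            exact mul_mem hq (P.S.norm hmz (inv_mem hq))
          have hsq : ∀ c ∈ Q', c ∈ N → c = 1 := by
            intro c hc' hcN
            by_contra hc1
            have h2c : 2 ∣ orderOf c := by
              obtain ⟨j, hj⟩ := P.S.pack.ext.1.1 ⟨c, hc'⟩
              have hd : orderOf c ∣ 2 ^ j := orderOf_dvd_of_pow_eq_one (congrArg Subtype.val hj)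
              obtain ⟨i, -, hi⟩ := (Nat.dvd_prime_pow Nat.prime_two).1 hd
              cases i with
              | zero => exact absurd (orderOf_eq_one_iff.1 hi) hc1
              | succ i => exact hi ▸ dvd_pow_self 2 (Nat.succ_ne_zero i)
            exact h2 (h2c.trans (Subgroup.orderOf_mk c hcN ▸ orderOf_dvd_natCard (⟨c, hcN⟩ : N)))
          exact mul_inv_eq_iff_eq_mul.1 (mul_inv_eq_one.1 (hsq _ hin' hin)))
        have : m * m = 1 := by
          by_contra hmm
          have hzp := P.S.hsq m hmQ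
          rcases z2_cases' (qf (ψ m)) with e | e <;> rw [e] at hzp
          · exact hmm (hzp.trans (zp_zero z))
          · have h4 := hodd _ (mul_mem hmN hmN) (by rw [hzp, zp_one, P.S.zz])
            exact hmm h4
        have hm1 := hodd m hmN this
        rw [hm] at hm1
        rw [show n = k * (k⁻¹ * n * k) * k⁻¹ by group, hm1]; group
      have hinv : ∀ k : G, ∀ n ∈ N, k * z * k⁻¹ * n * (k * z * k⁻¹) = n⁻¹ := by
        intro k
        have hvv : k * z * k⁻¹ * (k * z * k⁻¹) = 1 := by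
          rw [show k * z * k⁻¹ * (k * z * k⁻¹) = k * (z * z) * k⁻¹ by group, P.S.zz]; group
        have hvfix := hfix k
        generalize k * z * k⁻¹ = v at hvv hvfix ⊢
        have hvi : v⁻¹ = v := inv_eq_of_mul_eq_one_right hvv
        have hv2 : ∀ x : G, v * (v * x) = x := fun x => by rw [← mul_assoc, hvv, one_mul]
        let f : N → N := fun n => ⟨(n : G)⁻¹ * (v * n * v), mul_mem (inv_mem n.2) (by
          simpa [hvi] using hN.conj_mem _ n.2 v)⟩
        have hinj : Function.Injective f := by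
          intro a b hab
          have h1 : (a : G)⁻¹ * (v * a * v) = (b : G)⁻¹ * (v * b * v) := congrArg Subtype.val hab
          have h3 : (b : G) * (a : G)⁻¹ = 1 := by
            refine hvfix _ (mul_mem b.2 (inv_mem a.2)) ?_
            have h5 : (b : G) * (a : G)⁻¹ * (v * a * v) = v * b * v := by
              rw [mul_assoc, h1, mul_inv_cancel_left]
            calc (b : G) * (a : G)⁻¹ * v = (b : G) * (a : G)⁻¹ * (v * a * v) * (v * (a : G)⁻¹) := by
                  simp only [mul_assoc, hv2, mul_inv_cancel, mul_one]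
              _ = v * ((b : G) * (a : G)⁻¹) := by
                  rw [h5]; simp only [mul_assoc, hv2]
          exact Subtype.ext (mul_inv_eq_one.1 h3).symm
        intro n hn
        obtain ⟨a, ha⟩ := (Finite.injective_iff_surjective.1 hinj) ⟨n, hn⟩
        have ha' : (a : G)⁻¹ * (v * a * v) = n := congrArg Subtype.val ha
        rw [← ha']
        simp only [mul_inv_rev, inv_inv, hvi, mul_assoc, hv2, hvv, mul_one]
      obtain ⟨n, hn, hn1⟩ := (Subgroup.nontrivial_iff_exists_ne_one N).1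
        ((Subgroup.nontrivial_iff_ne_bot N).2 hN1)
      obtain ⟨k', hk'⟩ : ∃ k' : G, k' * z * k'⁻¹ = z * (g * z * g⁻¹) := ⟨P.yv * g, by
        rw [show P.yv * g * z * (P.yv * g)⁻¹ = P.yv * (g * z * g⁻¹) * P.yv⁻¹ by group, P.y_u, P.zu]⟩
      have h1 := hinv 1 n hn
      simp only [one_mul, inv_one, mul_one] at h1
      have h3 := hinv k' n hn
      rw [hk'] at h3
      set u := g * z * g⁻¹ with hu
      have h2' := hinv g n⁻¹ (inv_mem hn)
      rw [← hu, inv_inv] at h2'
      have : z * u * n * (z * u) = n := by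
        rw [P.zu]
        calc u * z * n * (u * z) = u * (z * n * z) * (z * (u * z)) := by
              simp only [mul_assoc]; rw [← mul_assoc z z, P.S.zz, one_mul]
          _ = u * n⁻¹ * u := by rw [h1, ← P.zu, ← mul_assoc z z, P.S.zz, one_mul]
          _ = n := h2'
      exact hn1 (hodd n hn (mul_eq_one_iff_eq_inv.2 (this.symm.trans h3)))
  have huN : g * z * g⁻¹ ∈ N := hN.conj_mem z hzN g
  have hQN : Q' ≤ N := Q_le_of P (fun h _ n hn => hN.conj_mem n hn h) hzN huN
  -- `C(z)` lies in `N`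
  obtain ⟨b, hb, hbz, hbw⟩ := P.exists_ww vec_facts.1
  have hbQ : b ∉ Q' := fun h => vec_facts.2.1 (by
    rw [← hbw, Pair.ww, show act Q' ψ b = fun x => x from funext fun x => P.S.act_of_mem h x,
      show cvec (fun x : V => x) = f1 + f1 from rfl, v_self]
    rfl)
  have hbN : b ∈ N := by
    obtain ⟨k, -, hk⟩ := P.conj
    exact (show Q'.map (MulAut.conj g).toMonoidHom ≤ N from fun x ⟨y, hy, e'⟩ => e' ▸ hN.conj_mem y (hQN hy) g) hb
  haveI : IsSimpleGroup ((centralizer ({z} : Set G)) ⧸ Q) :=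
    haveI := omega_minus_simple; e.isSimpleGroup
  have hCN : centralizer ({z} : Set G) ≤ N := by
    have hnorm : ((N.subgroupOf (centralizer ({z} : Set G))).map (QuotientGroup.mk' Q)).Normal :=
      (hN.subgroupOf _).map _ (QuotientGroup.mk'_surjective Q)
    rcases hnorm.eq_bot_or_eq_top with h | h
    · exfalso
      have hm : QuotientGroup.mk' Q ⟨b, mem_centralizer_singleton_iff.2 hbz⟩ ∈
          (N.subgroupOf (centralizer ({z} : Set G))).map (QuotientGroup.mk' Q) :=
        mem_map_of_mem _ (show (⟨b, _⟩ : centralizer ({z} : Set G)) ∈ N.subgroupOf _ from hbN)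
      rw [h, mem_bot, QuotientGroup.mk'_apply, QuotientGroup.eq_one_iff] at hm
      exact hbQ ⟨_, hm, rfl⟩
    · intro c hc
      obtain ⟨n, hn, hn'⟩ : (QuotientGroup.mk' Q ⟨c, hc⟩) ∈
          (N.subgroupOf (centralizer ({z} : Set G))).map (QuotientGroup.mk' Q) := h ▸ mem_top _
      have := QuotientGroup.eq.1 hn'
      have h' : (n : G)⁻¹ * c ∈ N := hQN ⟨_, this, rfl⟩
      simpa using mul_mem (show (n : G) ∈ N from hn) h'
  -- the Frattini argument
  refine eq_top_iff.2 fun x _ => ?_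
  obtain ⟨P2, hP2⟩ := P.S.pack.ext.1.1.exists_le_sylow
  have hPz : (P2 : Subgroup G) ≤ centralizer ({z} : Set G) := by
    intro p hp
    haveI : Nontrivial ↥(P2 : Subgroup G) :=
      ⟨⟨z, hP2 P.S.zQ⟩, 1, fun h => P.S.zne (congrArg Subtype.val h)⟩
    haveI := P2.isPGroup'.center_nontrivial
    obtain ⟨⟨w, hw⟩, hw1⟩ := exists_ne (1 : center ↥(P2 : Subgroup G))
    have hwQ : (w : G) ∈ Q' := P.S.pack.cent (mem_centralizer_iff.2 fun q hq =>
      congrArg Subtype.val (mem_center_iff.1 hw ⟨q, hP2 hq⟩))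
    rcases P.S.pack.eq_of_central hwQ (fun b hb =>
      (congrArg Subtype.val (mem_center_iff.1 hw ⟨b, hP2 hb⟩)).symm) with h | h
    · exact absurd (Subtype.ext (Subtype.ext h)) hw1
    · refine mem_centralizer_singleton_iff.2 ?_
      rw [← h]
      exact congrArg Subtype.val (mem_center_iff.1 hw ⟨p, hp⟩)
  haveI := hN
  have hPN : (P2 : Subgroup G) ≤ N := hPz.trans hCN
  have hfr := Sylow.normalizer_sup_eq_top' P2 hPN
  have hnz : normalizer ((P2 : Subgroup G) : Set G) ≤ N := by
    intro k hk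
    refine hCN (mem_centralizer_singleton_iff.2 ?_)
    have hkzP : k * z * k⁻¹ ∈ (P2 : Subgroup G) := (mem_normalizer_iff.1 hk z).1 (hP2 P.S.zQ)
    have hcen : ∀ p ∈ (P2 : Subgroup G), p * (k * z * k⁻¹) = k * z * k⁻¹ * p := by
      intro p hp
      have hp' : k⁻¹ * p * k ∈ (P2 : Subgroup G) := by
        have := (mem_normalizer_iff.1 (inv_mem hk) p).1 hp
        rwa [inv_inv] at this
      have := mem_centralizer_singleton_iff.1 (hPz hp')
      calc p * (k * z * k⁻¹) = k * (k⁻¹ * p * k * z) * k⁻¹ := by group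
        _ = _ := by rw [this]; group
    have hkQ : k * z * k⁻¹ ∈ Q' := P.S.pack.cent (mem_centralizer_iff.2 fun q hq => hcen q (hP2 hq))
    rcases P.S.pack.eq_of_central hkQ (fun b hb => (hcen b (hP2 hb)).symm) with h | h
    · exact absurd (conj_eq_one_iff.1 h) P.S.zne
    · exact mul_inv_eq_iff_eq_mul.1 h
  have hle := sup_le (show normalizer (P2 : Set G) ≤ N from hnz) (le_refl N)
  rw [hfr] at hle
  exact hle (mem_top x)

end CfsgLib.InvChar.SuzCo
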