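import Cfsg.Agent.Lib.InvChar.SuzCo.Fixed
import Cfsg.Agent.Lib.InvChar.SuzCo.Simple
import Mathlib.LinearAlgebra.Matrix.ToLin

/-!
# The action of `C(z, x)` on the fixed space is the commutator subgroup of its isometry group
-/

set_option autoImplicit false
set_option linter.unusedSectionVars false
set_option maxRecDepth 10000

namespace CfsgLib.InvChar.SuzCo

open Subgroup Matrix CfsgLib.Trans3.ExtraTwo CfsgLib.ClassK.Conway

theorem qd_JJ (a b : Amalgam.SixMinus.I6 → ZMod 2) :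
    alt (J a) (J b) = Amalgam.SixMinus.Q2 (a + b) + Amalgam.SixMinus.Q2 a + Amalgam.SixMinus.Q2 b := by
  rw [← qd_J, ← qd_J, ← qd_J, J_add, qd_add]
  generalize qd (J a) = p; generalize qd (J b) = q; generalize alt (J a) (J b) = r
  revert p q r; decide

theorem exists_nonsing : ∃ a, qd (J a) = 1 := by decide +kernel

theorem elt_three : ∃ a b, qd (J a) = 1 ∧ qd (J b) = 1 ∧ ∃ w, refl (J a) (refl (J b) (J w)) ≠ J w ∧
    refl (J a) (refl (J b) (refl (J a) (refl (J b) (J w)))) ≠ J w := by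
  decide +kernel

theorem refl_R : ∀ a, qd (J a) = 1 → ∀ v, refl (J a) (R v) = R (refl (J a) v) := fun a ha v => by
  have h := refl_conj R_isom (J a) v
  rwa [R_J] at h

theorem J_Ji_refl (a w : Amalgam.SixMinus.I6 → ZMod 2) (ha : qd (J a) = 1) :
    J (Ji (refl (J a) (J w))) = refl (J a) (J w) :=
  (fixed_iff _).1 (by rw [← refl_R a ha, R_J])

variable {G : Type*} [Group G] [Finite G] {z : G} {Q : Subgroup G} {e : ↥Q ≃* ES 4 (ff 4)} {ρ : G}
  (T : Tri z Q e ρ) {x : G} (X : Rot T x)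
include T X

/-- The induced linear map. -/
noncomputable def linMap (h : Hx T X) :
    (Amalgam.SixMinus.I6 → ZMod 2) →ₗ[ZMod 2] (Amalgam.SixMinus.I6 → ZMod 2) :=
  (AddMonoidHom.mk' (fun w => Ji (act e (h : G) (J w))) fun a b => by
    rw [J_add, (T.setup.act_isom (Hx_le_z T X h.2)).map_add, Ji_add]).toZModLinearMap 2

theorem linMap_apply (h : Hx T X) (w : Amalgam.SixMinus.I6 → ZMod 2) :
    linMap T X h w = Ji (act e (h : G) (J w)) := rfl

theorem linMap_mul (h k : Hx T X) (w : Amalgam.SixMinus.I6 → ZMod 2) :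
    linMap T X (h * k) w = linMap T X h (linMap T X k w) := by
  rw [linMap_apply, linMap_apply, linMap_apply, act_fixed T X k.2, Subgroup.coe_mul,
    T.setup.act_mul (Hx_le_z T X h.2) (Hx_le_z T X k.2)]

theorem linMap_one (w : Amalgam.SixMinus.I6 → ZMod 2) : linMap T X 1 w = w := by
  rw [linMap_apply, OneMemClass.coe_one, T.setup.act_one, Ji_J]

theorem exists_hom : ∃ Φ : Hx T X →* Cfsg.isometryGroup (ZMod 2) Amalgam.SixMinus.Q2,
    ∀ h w, ((Φ h : GL Amalgam.SixMinus.I6 (ZMod 2)) :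
      Matrix Amalgam.SixMinus.I6 Amalgam.SixMinus.I6 (ZMod 2)) *ᵥ w = Ji (act e (h : G) (J w)) := by
  classical
  let M : Hx T X → Matrix Amalgam.SixMinus.I6 Amalgam.SixMinus.I6 (ZMod 2) :=
    fun h => LinearMap.toMatrix' (linMap T X h)
  have hM : ∀ h w, M h *ᵥ w = linMap T X h w := fun h w => by
    show LinearMap.toMatrix' (linMap T X h) *ᵥ w = _
    rw [LinearMap.toMatrix'_mulVec]
  have hmul : ∀ h k, M (h * k) = M h * M k := fun h k => Matrix.ext_iff_mulVec.2 fun w => by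
    rw [← mulVec_mulVec, hM, hM, hM, linMap_mul]
  have hone : M 1 = 1 := Matrix.ext_iff_mulVec.2 fun w => by rw [hM, linMap_one, one_mulVec]
  let U : Hx T X → Cfsg.isometryGroup (ZMod 2) Amalgam.SixMinus.Q2 := fun h =>
    ⟨⟨M h, M h⁻¹, by rw [← hmul, mul_inv_cancel, hone], by rw [← hmul, inv_mul_cancel, hone]⟩,
      fun w _ => by
        show Amalgam.SixMinus.Q2 (M h *ᵥ w) = Amalgam.SixMinus.Q2 w
        rw [hM, linMap_apply, ← qd_J, act_fixed T X h.2, (T.setup.act_isom (Hx_le_z T X h.2)).map_qd,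
          qd_J]⟩
  exact ⟨MonoidHom.mk' U fun h k => Subtype.ext (Units.ext (hmul h k)), fun h w => hM h w⟩

variable {Φ : Hx T X →* Cfsg.isometryGroup (ZMod 2) Amalgam.SixMinus.Q2}
  (hΦ : ∀ h w, ((Φ h : GL Amalgam.SixMinus.I6 (ZMod 2)) :
      Matrix Amalgam.SixMinus.I6 Amalgam.SixMinus.I6 (ZMod 2)) *ᵥ w = Ji (act e (h : G) (J w)))
include hΦ

theorem phi_eq_one_iff (h : Hx T X) : Φ h = 1 ↔ ∀ w, act e (h : G) (J w) = J w := by
  constructor
  · intro h1 w
    have := hΦ h w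
    rw [h1] at this
    rw [← act_fixed T X h.2 w, ← this]
    congr 1
    exact one_mulVec w
  · intro h1
    refine Subtype.ext (Units.ext (Matrix.ext_iff_mulVec.2 fun w => ?_))
    rw [hΦ, h1, Ji_J]
    exact (one_mulVec w).symm

theorem phi_ker (h : Hx T X) (h1 : Φ h = 1) : ∃ i : ℕ, x ^ i * (h : G) ∈ Qx T X := by
  have S := T.setup
  have hz := Hx_le_z T X h.2
  have hJ := (phi_eq_one_iff T X hΦ h).1 h1
  have key : ∀ i : ℕ, (∀ v, R^[i] (act e (h : G) v) = v) → ∃ i : ℕ, x ^ i * (h : G) ∈ Qx T X := by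
    intro i hi
    refine ⟨i, S.mem_of_act (mul_mem (pow_mem (x_mem T X) i) hz) fun v => ?_, ?_⟩
    · rw [S.act_mul (pow_mem (x_mem T X) i) hz, act_pow T X, hi]
    · exact mul_mem (pow_mem (mem_centralizer_singleton_iff.2 rfl) i) h.2.1
  rcases eq_pow (S.act_isom hz) hJ (act_comm T X h.2) with e' | e' | e'
  · exact key 0 fun v => e' v
  · exact key 2 fun v => by
      rw [e', Function.iterate_succ_apply, Function.iterate_one, R_three]
  · exact key 1 fun v => by rw [e', Function.iterate_one, R_three]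

theorem no_refl {a : Amalgam.SixMinus.I6 → ZMod 2} (ha : qd (J a) = 1) (h : Hx T X) :
    ∃ w, act e (h : G) (J w) ≠ refl (J a) (J w) := by
  by_contra hcon
  push Not at hcon
  have S := T.setup
  have hz := Hx_le_z T X h.2
  have hi : Isom (refl (J a) ∘ act e (h : G)) := (refl_isom ha).comp (S.act_isom hz)
  have key : ∀ i : ℕ, (∀ v, R^[i] (act e (h : G) v) = refl (J a) v) → False := by
    intro i hiv
    obtain ⟨v, hv⟩ := S.norefl (x ^ i * h) (mul_mem (pow_mem (x_mem T X) i) hz) (J a) ha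
    exact hv (by rw [S.act_mul (pow_mem (x_mem T X) i) hz, act_pow T X, hiv])
  have hback : ∀ {g : Sp 4 → Sp 4}, (∀ v, (refl (J a) ∘ act e (h : G)) v = g v) →
      ∀ v, act e (h : G) v = refl (J a) (g v) := fun hg v => by
    rw [← hg v, Function.comp_apply, refl_refl]
  rcases eq_pow hi (fun w => by rw [Function.comp_apply, hcon, refl_refl])
    (fun v => by rw [Function.comp_apply, Function.comp_apply, act_comm T X h.2, refl_R a ha]) with
    e' | e' | e'
  · exact key 0 (hback e')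
  · exact key 2 fun v => by
      rw [hback e' v, Function.iterate_succ_apply, Function.iterate_one, ← refl_R a ha, ← refl_R a ha,
        R_three]
  · exact key 1 fun v => by
      rw [hback e' v, Function.iterate_one, ← refl_R a ha, R_three]

theorem exists_refl_iso {a : Amalgam.SixMinus.I6 → ZMod 2} (ha : qd (J a) = 1) :
    ∃ r : Cfsg.isometryGroup (ZMod 2) Amalgam.SixMinus.Q2,
      ∀ w, ((r : GL Amalgam.SixMinus.I6 (ZMod 2)) :
        Matrix Amalgam.SixMinus.I6 Amalgam.SixMinus.I6 (ZMod 2)) *ᵥ w = Ji (refl (J a) (J w)) :=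
  SuzType.exists_iso_fun Amalgam.SixMinus.Q2 (fun w => Ji (refl (J a) (J w)))
    (fun u v => by rw [J_add, (refl_isom ha).map_add, Ji_add])
    (fun w => by rw [J_Ji_refl a w ha, refl_refl, Ji_J])
    (fun w => by rw [← qd_J, J_Ji_refl a w ha, (refl_isom ha).map_qd, qd_J])

theorem range_eq : Φ.range = Cfsg.Omega (ZMod 2) Amalgam.SixMinus.Q2 := by
  classical
  set Ω := Cfsg.Omega (ZMod 2) Amalgam.SixMinus.Q2 with hΩ
  haveI := omega_minus_simple
  have hidx : Ω.index = 2 := Amalgam.SixMinus.omega_index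
  haveI : Ω.Normal := Subgroup.normal_of_index_eq_two hidx
  -- the pairs
  have hpair : ∀ a b, qd (J a) = 1 → qd (J b) = 1 →
      ∃ g ∈ Φ.range, ∀ w, ((g : GL Amalgam.SixMinus.I6 (ZMod 2)) :
        Matrix Amalgam.SixMinus.I6 Amalgam.SixMinus.I6 (ZMod 2)) *ᵥ w =
          Ji (refl (J a) (refl (J b) (J w))) := by
    intro a b ha hb
    obtain ⟨c, hc, hca⟩ := T.setup.even (J a) (J b) ha hb
    obtain ⟨d, hd, hdc⟩ := exists_lift T X (mem_centralizer_singleton_iff.1 hc)
      fun v => by rw [hca, hca, refl_R b hb, refl_R a ha]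
    exact ⟨Φ ⟨d, hd⟩, ⟨_, rfl⟩, fun w => by rw [hΦ, hdc, hca]⟩
  -- the subgroup generated by the pairs
  let S0 : Set (Cfsg.isometryGroup (ZMod 2) Amalgam.SixMinus.Q2) :=
    {g | ∃ a b, qd (J a) = 1 ∧ qd (J b) = 1 ∧ ∀ w, ((g : GL Amalgam.SixMinus.I6 (ZMod 2)) :
        Matrix Amalgam.SixMinus.I6 Amalgam.SixMinus.I6 (ZMod 2)) *ᵥ w =
          Ji (refl (J a) (refl (J b) (J w)))}
  have hS0 : Subgroup.closure S0 ≤ Φ.range := (Subgroup.closure_le _).2 fun g ⟨a, b, ha, hb, hg⟩ => by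
    obtain ⟨g', hg', hgw⟩ := hpair a b ha hb
    rwa [show g = g' from Subtype.ext (Units.ext (Matrix.ext_iff_mulVec.2 fun w => by rw [hg, hgw]))]
  -- it is normal
  haveI hnorm : (Subgroup.closure S0).Normal := by
    refine ⟨fun g hg k => ?_⟩
    let f : Sp 4 → Amalgam.SixMinus.I6 → ZMod 2 := fun v =>
      ((k : GL Amalgam.SixMinus.I6 (ZMod 2)) :
        Matrix Amalgam.SixMinus.I6 Amalgam.SixMinus.I6 (ZMod 2)) *ᵥ Ji v
    have hgen : ∀ y ∈ S0, k * y * k⁻¹ ∈ S0 := by
      rintro y ⟨a, b, ha, hb, hy⟩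
      set A := ((k : GL Amalgam.SixMinus.I6 (ZMod 2)) :
        Matrix Amalgam.SixMinus.I6 Amalgam.SixMinus.I6 (ZMod 2)) with hA
      set A' := (((k⁻¹ : Cfsg.isometryGroup (ZMod 2) Amalgam.SixMinus.Q2) :
        GL Amalgam.SixMinus.I6 (ZMod 2)) : Matrix Amalgam.SixMinus.I6 Amalgam.SixMinus.I6 (ZMod 2)) with hA'
      have hq : ∀ w, Amalgam.SixMinus.Q2 (A *ᵥ w) = Amalgam.SixMinus.Q2 w := fun w => k.2 w 0
      have hrefl : ∀ a w, qd (J a) = 1 → A *ᵥ Ji (refl (J a) (J w)) = Ji (refl (J (A *ᵥ a)) (J (A *ᵥ w))) := by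
        intro a w ha
        have halt : alt (J (A *ᵥ w)) (J (A *ᵥ a)) = alt (J w) (J a) := by
          rw [qd_JJ, qd_JJ, ← mulVec_add, hq, hq, hq]
        rcases z2_cases (alt (J w) (J a)) with h | h
        · rw [refl_of_alt h, refl_of_alt (halt.trans h), Ji_J, Ji_J]
        · rw [refl_of_alt' h, refl_of_alt' (halt.trans h), ← J_add, ← J_add, Ji_J, Ji_J, mulVec_add]
      have hinv : ∀ w, A *ᵥ (A' *ᵥ w) = w := fun w => by
        rw [mulVec_mulVec, hA, hA', ← Units.val_mul, ← Subgroup.coe_mul, mul_inv_cancel,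
          OneMemClass.coe_one, Units.val_one, one_mulVec]
      refine ⟨A *ᵥ a, A *ᵥ b, by rw [qd_J, hq, ← qd_J, ha], by rw [qd_J, hq, ← qd_J, hb], fun w => ?_⟩
      simp only [Subgroup.coe_mul, Units.val_mul, ← mulVec_mulVec]
      rw [← hA, ← hA', hy, ← J_Ji_refl b _ hb, hrefl a _ ha, hrefl b _ hb, hinv,
        J_Ji_refl _ _ (by rw [qd_J, hq, ← qd_J, hb])]
    revert g
    refine fun g hg => ?_
    induction hg using Subgroup.closure_induction with
    | mem y hy => exact Subgroup.subset_closure (hgen y hy)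
    | one => simp
    | mul u v _ _ hu hv =>
      rw [show k * (u * v) * k⁻¹ = k * u * k⁻¹ * (k * v * k⁻¹) by group]; exact mul_mem hu hv
    | inv u _ hu =>
      rw [show k * u⁻¹ * k⁻¹ = (k * u * k⁻¹)⁻¹ by group]; exact inv_mem hu
  have hΩle : Ω ≤ Φ.range := by
    rcases (inferInstance : ((Subgroup.closure S0).subgroupOf Ω).Normal).eq_bot_or_eq_top with h | h
    · exfalso
      obtain ⟨a, b, ha, hb, w, h1, h2⟩ := elt_three
      obtain ⟨g, -, hg⟩ := hpair a b ha hb
      have hgS : g ∈ Subgroup.closure S0 := Subgroup.subset_closure ⟨a, b, ha, hb, hg⟩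
      have hsq : g * g ∈ Ω := Subgroup.mul_self_mem_of_index_two hidx g
      have hbot : (⟨g * g, hsq⟩ : Ω) ∈ (Subgroup.closure S0).subgroupOf Ω := mul_mem hgS hgS
      rw [h, mem_bot] at hbot
      have hgg : g * g = 1 := congrArg Subtype.val hbot
      refine h2 ?_
      have := congrArg (fun y : Cfsg.isometryGroup (ZMod 2) Amalgam.SixMinus.Q2 =>
        ((y : GL Amalgam.SixMinus.I6 (ZMod 2)) :
          Matrix Amalgam.SixMinus.I6 Amalgam.SixMinus.I6 (ZMod 2)) *ᵥ w) hgg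
      simp only [Subgroup.coe_mul, Units.val_mul, ← mulVec_mulVec, OneMemClass.coe_one, Units.val_one,
        one_mulVec] at this
      rw [hg, hg] at this
      have hfix : J (Ji (refl (J a) (refl (J b) (J w)))) = refl (J a) (refl (J b) (J w)) :=
        (fixed_iff _).1 (by rw [← refl_R a ha, ← refl_R b hb, R_J])
      rw [hfix] at this
      have hfix2 : J (Ji (refl (J a) (refl (J b) (refl (J a) (refl (J b) (J w)))))) =
          refl (J a) (refl (J b) (refl (J a) (refl (J b) (J w)))) :=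
        (fixed_iff _).1 (by rw [← refl_R a ha, ← refl_R b hb, ← refl_R a ha, ← refl_R b hb, R_J])
      rw [← hfix2, this]
    · exact fun g hg => hS0 (show (⟨g, hg⟩ : Ω) ∈ (Subgroup.closure S0).subgroupOf Ω from h ▸ mem_top _)
  obtain ⟨a, ha⟩ := exists_nonsing
  obtain ⟨r, hr⟩ := exists_refl_iso T X hΦ ha
  have hrR : r ∉ Φ.range := by
    rintro ⟨h, rfl⟩
    obtain ⟨w, hw⟩ := no_refl T X hΦ ha h
    refine hw ?_
    rw [← act_fixed T X h.2 w, ← hΦ, hr, J_Ji_refl a w ha]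
  refine (le_antisymm hΩle fun g hg => ?_).symm
  by_contra hgΩ
  have hrg : r * g ∈ Ω := (Subgroup.mul_mem_iff_of_index_two hidx).2
    ⟨fun h => absurd (hΩle h) hrR, fun h => absurd h hgΩ⟩
  exact hrR (by simpa using mul_mem (hΩle hrg) (inv_mem hg))

end CfsgLib.InvChar.SuzCo
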