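import Cfsg.Agent.Lib.InvChar.SuzCo.Fixed

/-!
# A second rotation, in a plane orthogonal to the first
-/

set_option autoImplicit false
set_option linter.unusedSectionVars false
set_option maxRecDepth 10000

namespace CfsgLib.InvChar.SuzCo

open Subgroup CfsgLib.Trans3.ExtraTwo CfsgLib.ClassK.Conway

/-- A vector of the second plane. -/
def pc : Sp 3 := ![0, 0, (1, 1)]

/-- A vector of the second plane. -/
def pd : Sp 3 := ![0, (1, 1), (0, 1)]

/-- A nonsingular vector orthogonal to both planes. -/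
def pn : Sp 3 := ![0, (1, 1), 0]

/-- A vector of the word carrying the first plane to the second. -/
def w1 : Sp 3 := ![(1, 1), (1, 0), (1, 0)]

/-- A vector of the word carrying the first plane to the second. -/
def w2 : Sp 3 := ![(0, 1), (1, 1), (1, 0)]

/-- A vector of the word carrying the first plane to the second. -/
def w3 : Sp 3 := ![(1, 0), (1, 1), (0, 1)]

/-- A vector of the word carrying the first plane to the second. -/
def w4 : Sp 3 := ![(1, 1), (1, 1), (1, 1)]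

/-- The second rotation. -/
def R' (v : Sp 4) : Sp 4 := refl (up pc) (refl (up pd) v)

theorem second_qd : qd pc = 1 ∧ qd pd = 1 ∧ qd pn = 1 ∧ qd w1 = 1 ∧ qd w2 = 1 ∧ qd w3 = 1 ∧ qd w4 = 1 ∧
    qd (up pc) = 1 ∧ qd (up pd) = 1 := by
  decide +kernel

theorem second_maps : (∀ v : Sp 3, refl ea (refl eb (refl pc (refl pd v))) = refl pc (refl pd (refl ea (refl eb v)))) ∧
    (∀ v : Sp 3, refl pc (refl pn (refl ea (refl eb v))) = refl ea (refl eb (refl pc (refl pn v)))) ∧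
    (∀ v : Sp 3, refl pc (refl pn (refl pc (refl pd v))) =
      refl pc (refl pd (refl pc (refl pd (refl pc (refl pn v)))))) ∧
    (∀ v : Sp 3, refl w3 (refl w4 (refl w1 (refl w2 (refl ea (refl eb v))))) =
      refl pc (refl pd (refl w3 (refl w4 (refl w1 (refl w2 v)))))) ∧
    (∃ v : Sp 3, refl pc (refl pd v) ≠ v ∧ refl pc (refl pd v) ≠ refl ea (refl eb v) ∧
      refl pc (refl pd v) ≠ refl ea (refl eb (refl ea (refl eb v)))) := by
  decide +kernel

/-- The second rotation with its companions. -/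
structure Second {G : Type*} [Group G] [Finite G] {z : G} {Q : Subgroup G} {e : ↥Q ≃* ES 4 (ff 4)}
    (x x₂ k l : G) : Prop where
  z_comm : x₂ * z = z * x₂
  x_comm : x₂ * x = x * x₂
  three : x₂ * x₂ * x₂ = 1
  act_eq : ∀ v, act e x₂ v = R' v
  not_mem : x₂ ∉ zpowers x
  k_comm : k * x = x * k
  k_inv : k * x₂ * k⁻¹ = x₂ * x₂
  l_conj : l * x * l⁻¹ = x₂

variable {G : Type*} [Group G] [Finite G] {z : G} {Q : Subgroup G} {e : ↥Q ≃* ES 4 (ff 4)} {ρ : G}
  (T : Tri z Q e ρ) {x : G} (X : Rot T x)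
include T X

theorem exists_second : ∃ x₂ k l, Second (z := z) (e := e) x x₂ k l := by
  obtain ⟨qc, qd', qn, q1, q2, q3, q4, qc4, qd4⟩ := second_qd
  obtain ⟨m1, m2, m3, m4, v0, hv1, hv2, hv3⟩ := second_maps
  obtain ⟨x₂, hx₂, hs₂⟩ := T.exists_pair qc qd'
  obtain ⟨k, hk, hks⟩ := T.exists_pair qc qn
  obtain ⟨l1, hl1, hl1s⟩ := T.exists_pair q3 q4
  obtain ⟨l2, hl2, hl2s⟩ := T.exists_pair q1 q2
  have hl := hl1.mul hl2
  have hsl : ∀ v, sig e (l1 * l2) v = refl w3 (refl w4 (refl w1 (refl w2 v))) := fun v => by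
    rw [T.sig_mul hl1.1 hl2.1, hl1s, hl2s]
  have hconj : l1 * l2 * x = x₂ * (l1 * l2) := T.lev_ext (hl.mul X.lev) (hx₂.mul hl) fun v => by
    rw [T.sig_mul hl.1 X.lev.1, T.sig_mul hx₂.1 hl.1, hsl, X.sig_eq, hs₂, hsl, m4]
  have hconj' : l1 * l2 * x * (l1 * l2)⁻¹ = x₂ := mul_inv_eq_iff_eq_mul.2 hconj
  have h3 : x₂ * x₂ * x₂ = 1 := by
    rw [← hconj', show ∀ a b : G, a * b * a⁻¹ * (a * b * a⁻¹) * (a * b * a⁻¹) = a * (b * b * b) * a⁻¹
      from fun a b => by group, x_three T X]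
    group
  have hact : ∀ v, act e x₂ v = R' v := by
    intro v
    have hR : Isom R' := (refl_isom qc4).comp (refl_isom qd4)
    have hi := T.setup.act_isom (Tri.memH hx₂.1)
    obtain ⟨s, t, b, rfl, -, -⟩ := decomp v
    rw [hi.map_add, hi.map_add, hR.map_add, hR.map_add, map_smul' hi, map_smul' hi, map_smul' hR,
      map_smul' hR, T.act_e0 hx₂.1, (T.lev_act hx₂).1, (T.lev_act hx₂).2, hs₂]
    rw [R', R', R', (refl_up_fix pd).1, (refl_up_fix pc).1, (refl_up_fix pd).2, (refl_up_fix pc).2,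
      refl_up, refl_up]
  refine ⟨x₂, k, l1 * l2, hx₂.1.1, ?_, h3, hact, fun hm => ?_, ?_, ?_, hconj'⟩
  · exact T.lev_ext (hx₂.mul X.lev) (X.lev.mul hx₂) fun v => by
      rw [T.sig_mul hx₂.1 X.lev.1, T.sig_mul X.lev.1 hx₂.1, hs₂, X.sig_eq, X.sig_eq, hs₂, m1]
  · obtain ⟨i, hi⟩ := mem_powers_iff_mem_zpowers.2 hm
    have hi' : x ^ (i % 3) = x₂ := by rw [← order_x T X, pow_mod_orderOf]; exact hi
    rcases (by omega : i % 3 = 0 ∨ i % 3 = 1 ∨ i % 3 = 2) with h | h | h <;> rw [h] at hi'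
    · rw [pow_zero] at hi'
      refine hv1 ?_
      rw [← hs₂, ← hi', ← T.nm_one, T.sig_nm]
    · rw [pow_one] at hi'
      exact hv2 (by rw [← hs₂, ← hi', X.sig_eq])
    · rw [pow_two] at hi'
      exact hv3 (by rw [← hs₂, ← hi', sig_sq T X])
  · exact T.lev_ext (hk.mul X.lev) (X.lev.mul hk) fun v => by
      rw [T.sig_mul hk.1 X.lev.1, T.sig_mul X.lev.1 hk.1, hks, X.sig_eq, X.sig_eq, hks, m2]
  · refine mul_inv_eq_iff_eq_mul.2 (T.lev_ext (hk.mul hx₂) ((hx₂.mul hx₂).mul hk) fun v => ?_)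
    rw [T.sig_mul hk.1 hx₂.1, T.sig_mul (hx₂.1.mul hx₂.1) hk.1, T.sig_mul hx₂.1 hx₂.1, hks, hs₂, hs₂,
      hs₂, hks, m3]

end CfsgLib.InvChar.SuzCo
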