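import Cfsg.Agent.Lib.ClassK.ConwayLevi
import Cfsg.Agent.Lib.Amalgam.SixMinusSylow

/-!
# A rotation of an anisotropic plane of the eight-dimensional space and its fixed space
-/

set_option autoImplicit false
set_option maxRecDepth 10000

namespace CfsgLib.InvChar.SuzCo

open CfsgLib.Trans3.ExtraTwo CfsgLib.ClassK.Conway

/-- The product of two reflections in non-orthogonal vectors. -/
def R (v : Sp 4) : Sp 4 := refl (up ea) (refl (up eb) v)

/-- The coordinates on the fixed space. -/
def J (w : Amalgam.SixMinus.I6 → ZMod 2) : Sp 4 :=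
  ![(w (.inl (.inl 0)), w (.inl (.inr 0))), (w (.inr 0), w (.inr 0)),
    (w (.inr 0) + w (.inr 1), w (.inr 1)), (w (.inl (.inl 1)), w (.inl (.inr 1)))]

/-- The inverse coordinates. -/
def Ji (v : Sp 4) : Amalgam.SixMinus.I6 → ZMod 2 :=
  Sum.elim (Sum.elim ![(v 0).1, (v 3).1] ![(v 0).2, (v 3).2]) ![(v 1).1, (v 2).2]

theorem Ji_J (w : Amalgam.SixMinus.I6 → ZMod 2) : Ji (J w) = w := by
  funext i; rcases i with (i | i) | i <;> fin_cases i <;> rfl

theorem J_add (w w' : Amalgam.SixMinus.I6 → ZMod 2) : J (w + w') = J w + J w' := by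
  funext i
  fin_cases i <;> simp [J, add_add_add_comm]

theorem Ji_add (v v' : Sp 4) : Ji (v + v') = Ji v + Ji v' := by
  funext i; rcases i with (i | i) | i <;> fin_cases i <;> simp [Ji]

theorem qd_J : ∀ w, qd (J w) = Amalgam.SixMinus.Q2 w := by decide +kernel

theorem plane_facts : qd ea = 1 ∧ qd eb = 1 ∧ qd (up ea) = 1 ∧ qd (up eb) = 1 ∧
    (∀ v : Sp 3, refl ea (refl eb (refl ea (refl eb (refl ea (refl eb v))))) = v) ∧
    (∃ v : Sp 3, refl ea (refl eb v) ≠ v) ∧ R e0 = e0 ∧ J 0 = 0 := by
  decide +kernel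

theorem R_J : ∀ w, R (J w) = J w := by decide +kernel

theorem fixed_iff : ∀ v : Sp 4, R v = v ↔ J (Ji v) = v := by decide +kernel

theorem R_three : ∀ v : Sp 4, R (R (R v)) = v := by decide +kernel

theorem plane_cand : ∀ a : Sp 4, qd a = 1 → (∀ w, alt (J w) a = alt (J w) (up ea)) →
    a = up ea ∨ a = R (up ea) ∨ a = R (R (up ea)) := by
  decide +kernel

theorem decompose : ∀ v : Sp 4, ∃ (w : Amalgam.SixMinus.I6 → ZMod 2) (s t : ZMod 2),
    v = J w + (s • up ea + t • R (up ea)) := by
  decide +kernel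

theorem nondeg : ∀ w, w ≠ 0 → ∃ w', alt (J w) (J w') = 1 := by decide +kernel

theorem perp_plane : ∀ w, alt (up ea) (J w) = 0 ∧ alt (J w) (up ea) = 0 := by decide +kernel

theorem R_isom : Isom R := (refl_isom plane_facts.2.2.1).comp (refl_isom plane_facts.2.2.2.1)

theorem map_smul' {f : Sp 4 → Sp 4} (hf : Isom f) (s : ZMod 2) (v : Sp 4) : f (s • v) = s • f v := by
  rcases z2_cases s with rfl | rfl
  · rw [zero_smul, zero_smul, hf.map_zero]
  · rw [one_smul, one_smul]

/-- An isometry fixing the fixed space and one vector of the plane and commuting with `R` is trivial. -/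
theorem eq_id {f : Sp 4 → Sp 4} (hf : Isom f) (hJ : ∀ w, f (J w) = J w) (ha : f (up ea) = up ea)
    (hR : ∀ v, f (R v) = R (f v)) : ∀ v, f v = v := by
  intro v
  obtain ⟨w, s, t, rfl⟩ := decompose v
  rw [hf.map_add, hf.map_add, map_smul' hf, map_smul' hf, hJ, ha, hR, ha]

/-- An isometry fixing the fixed space and commuting with `R` is a power of `R`. -/
theorem eq_pow {f : Sp 4 → Sp 4} (hf : Isom f) (hJ : ∀ w, f (J w) = J w)
    (hR : ∀ v, f (R v) = R (f v)) :
    (∀ v, f v = v) ∨ (∀ v, f v = R v) ∨ (∀ v, f v = R (R v)) := by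
  have hcand := plane_cand (f (up ea)) (by rw [hf.map_qd, plane_facts.2.2.1]) fun w => by
    rw [← hJ w, hf.map_alt, hJ w]
  have h2 : Isom (R ∘ f) := R_isom.comp hf
  have h3 : Isom (R ∘ (R ∘ f)) := R_isom.comp h2
  rcases hcand with e | e | e
  · exact Or.inl (eq_id hf hJ e hR)
  · refine Or.inr (Or.inl fun v => ?_)
    have := eq_id h3 (fun w => by simp only [Function.comp_apply]; rw [hJ, R_J, R_J])
      (by simp only [Function.comp_apply]; rw [e, R_three]) (fun v => by simp only [Function.comp_apply]; rw [hR]) v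
    simp only [Function.comp_apply] at this
    conv_lhs => rw [← R_three (f v)]
    exact congrArg R this
  · refine Or.inr (Or.inr fun v => ?_)
    have := eq_id h2 (fun w => by simp only [Function.comp_apply]; rw [hJ, R_J])
      (by simp only [Function.comp_apply]; rw [e, R_three]) (fun v => by simp only [Function.comp_apply]; rw [hR]) v
    simp only [Function.comp_apply] at this
    conv_lhs => rw [← R_three (f v)]
    exact congrArg (fun x => R (R x)) this

end CfsgLib.InvChar.SuzCo
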